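import Mathlib.GroupTheory.SpecificGroups.Dihedral
import Mathlib.GroupTheory.Perm.Basic
import Mathlib.Algebra.BigOperators.Group.Finset.Basic
import Mathlib.Data.Fintype.Prod
import Mathlib.Logic.Equiv.Fin.Basic
import Mathlib.Algebra.Group.Subgroup.Map
import Mathlib.Data.Fintype.BigOperators

/-!
A model of the group `3^3 : 2^2`: the triples in `D₆³` with an even number of reflections, and the
integer class functions on it used in the character computation.
-/

set_option autoImplicit false

namespace Cfsg.Agent.ThreeCubed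

open DihedralGroup

/-- The ambient group of triples. -/
abbrev W := DihedralGroup 3 × DihedralGroup 3 × DihedralGroup 3

/-- Class of an element of the dihedral group of order six: `0` trivial, `1` rotation, `2`
reflection. -/
def cl : DihedralGroup 3 → Fin 3
  | r i => if i = 0 then 0 else 1
  | sr _ => 2

theorem cl_conj : ∀ s t : DihedralGroup 3, cl (s * t * s⁻¹) = cl t := by decide +kernel

/-- An even number of reflections. -/
def even (w : W) : Bool :=
  xor (xor (decide (cl w.1 ≠ 2)) (decide (cl w.2.1 ≠ 2))) (decide (cl w.2.2 ≠ 2))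

/-- All three coordinates are rotations. -/
def rot (w : W) : Bool := decide (cl w.1 ≠ 2) && decide (cl w.2.1 ≠ 2) && decide (cl w.2.2 ≠ 2)

/-- Involution types. -/
def typA (w : W) : Bool := decide (cl w.1 = 2) && decide (cl w.2.1 = 2) && decide (cl w.2.2 = 0)
/-- Involution types. -/
def typB (w : W) : Bool := decide (cl w.1 = 2) && decide (cl w.2.1 = 0) && decide (cl w.2.2 = 2)
/-- Involution types. -/
def typC (w : W) : Bool := decide (cl w.1 = 0) && decide (cl w.2.1 = 2) && decide (cl w.2.2 = 2)

/-- The function `3 [z ≠ 0]` on the stabilizer of the axis. -/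
def fA (w : W) : ℤ := if cl w.2.2 = 1 then 3 else 0
/-- The function for the second axis. -/
def fB (w : W) : ℤ := if cl w.2.1 = 1 then 3 else 0
/-- The function for the third axis. -/
def fC (w : W) : ℤ := if cl w.1 = 1 then 3 else 0
/-- Twisted version of `fA`. -/
def gA (w : W) : ℤ := if cl w.2.2 = 1 then (if cl w.1 = 2 then -3 else 3) else 0
/-- Twisted version of `fB`. -/
def gB (w : W) : ℤ := if cl w.2.1 = 1 then (if cl w.1 = 2 then -3 else 3) else 0
/-- A function on the rotation subgroup. -/
def fR (w : W) : ℤ :=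
  if rot w = true then
    (if cl w.1 = 1 then (if cl w.2.1 = 1 then 3 else 6) else (if cl w.2.1 = 1 then 6 else 0))
  else 0
/-- The constant function. -/
def one' (_ : W) : ℤ := 1
/-- The linear character with kernel the rotations and the third involution type. -/
def lamC (w : W) : ℤ := if cl w.1 = 2 then -1 else 1

/-- A function factoring through coordinatewise classes is a class function. -/
theorem class_inv {α : Type*} (F : Fin 3 → Fin 3 → Fin 3 → α) (v w : W) :
    F (cl (v * w * v⁻¹).1) (cl (v * w * v⁻¹).2.1) (cl (v * w * v⁻¹).2.2) =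
      F (cl w.1) (cl w.2.1) (cl w.2.2) := by
  simp [cl_conj]

/-- The six tables. -/
def tables : List (W → ℤ) := [fA, fB, fC, gA, gB, fR]

theorem support_of_sq_eq_one : ∀ w : W, even w = true → w * w = 1 →
    fA w = 0 ∧ fB w = 0 ∧ fC w = 0 ∧ gA w = 0 ∧ gB w = 0 ∧ fR w = 0 := by decide +kernel

theorem card_even : (Finset.univ.filter fun w : W => even w = true).card = 108 := by decide +kernel

theorem even_one : even 1 = true := by decide +kernel

/-- Weighted dot product over the even triples. -/
def dot (F F' : W → ℤ) : ℤ := ∑ w ∈ Finset.univ.filter (fun w : W => even w = true), F w * F' w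

/-- Sum of a table over products of pairs from a set of involutions. -/
def pairSum (P : W → Bool) (F : W → ℤ) : ℤ :=
  ∑ y ∈ Finset.univ.filter (fun w : W => P w = true),
    ∑ z ∈ Finset.univ.filter (fun w : W => P w = true), F (y * z)

theorem dot_values :
    dot fA fA = 324 ∧ dot fB fB = 324 ∧ dot fC fC = 324 ∧ dot gA gA = 324 ∧ dot gB gB = 324 ∧
    dot fR fR = 540 ∧ dot fA one' = 108 ∧ dot fB one' = 108 ∧ dot fC one' = 108 ∧
    dot gA one' = 0 ∧ dot gB one' = 0 ∧ dot fR one' = 108 := by decide +kernel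

theorem dot_values_mixed :
    dot fA fB = 108 ∧ dot fA fC = 108 ∧ dot fB fC = 108 ∧
    dot gA fA = 0 ∧ dot gA fB = 108 ∧ dot gA fC = 108 ∧
    dot gB fB = 0 ∧ dot gB fA = 108 ∧ dot gB fC = 108 ∧ dot gA gB = 108 ∧
    dot fR fA = 216 ∧ dot fR fB = 216 ∧ dot fR fC = 216 ∧ dot fR gA = 216 ∧ dot fR gB = 216 ∧
    dot fC lamC = 108 ∧ dot gA lamC = 108 ∧ dot fB lamC = 0 := by decide +kernel

/-- All involutions. -/
def typAll (w : W) : Bool := typA w || typB w || typC w

theorem pairSum_all :
    pairSum typAll fA = 648 ∧ pairSum typAll fB = 648 ∧ pairSum typAll fC = 648 ∧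
    pairSum typAll gA = 0 ∧ pairSum typAll gB = 0 ∧ pairSum typAll fR = 972 := by decide +kernel

theorem pairSum_C : pairSum typC fC = 0 := by decide +kernel

theorem pairSum_AB :
    pairSum (fun w => typA w || typB w) fC = 648 ∧ pairSum (fun w => typA w || typB w) fB = 162 ∧
    pairSum (fun w => typA w || typB w) gA = 162 := by decide +kernel

/-- The representative of an involution type. -/
def repA : W := (sr 0, sr 0, 1)
/-- The representative of an involution type. -/
def repB : W := (sr 0, 1, sr 0)
/-- The representative of an involution type. -/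
def repC : W := (1, sr 0, sr 0)

theorem invol_types : ∀ w : W, even w = true → (w * w = 1 ∧ w ≠ 1 ↔ typAll w = true) := by
  decide +kernel

theorem typ_conj : ∀ w : W,
    (typA w = true → ∃ i j k : ZMod 3, (r i, r j, r k) * repA * (r i, r j, r k)⁻¹ = w) ∧
    (typB w = true → ∃ i j k : ZMod 3, (r i, r j, r k) * repB * (r i, r j, r k)⁻¹ = w) ∧
    (typC w = true → ∃ i j k : ZMod 3, (r i, r j, r k) * repC * (r i, r j, r k)⁻¹ = w) := by
  decide +kernel

theorem typ_rep : typA repA = true ∧ typB repB = true ∧ typC repC = true ∧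
    even repA = true ∧ even repB = true ∧ even repC = true := by decide +kernel

theorem sq_rot : ∀ w : W, even w = true → rot (w * w) = true := by decide +kernel

theorem rot_even : ∀ w : W, rot w = true → even w = true := by decide +kernel

theorem card_rot : (Finset.univ.filter fun w : W => rot w = true).card = 27 := by decide +kernel

theorem cl_pow_twentyseven : ∀ s : DihedralGroup 3, cl s = 2 → s ^ 27 ≠ 1 := by decide +kernel

theorem rot_comm_coord : ∀ s t : DihedralGroup 3, cl s ≠ 2 → cl t ≠ 2 → s * t = t * s := by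
  decide +kernel

theorem rot_comm {v w : W} (hv : rot v = true) (hw : rot w = true) : v * w = w * v := by
  simp only [rot, Bool.and_eq_true, decide_eq_true_eq] at hv hw
  exact Prod.ext (rot_comm_coord _ _ hv.1.1 hw.1.1)
    (Prod.ext (rot_comm_coord _ _ hv.1.2 hw.1.2) (rot_comm_coord _ _ hv.2 hw.2))

theorem rot_of_pow {w : W} (h : w ^ 27 = 1) : rot w = true := by
  simp only [rot, Bool.and_eq_true, decide_eq_true_eq]
  refine ⟨⟨fun hh => ?_, fun hh => ?_⟩, fun hh => ?_⟩ <;> refine cl_pow_twentyseven _ hh ?_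
  · exact congrArg Prod.fst h
  · exact congrArg (fun v => v.2.1) h
  · exact congrArg (fun v => v.2.2) h

/-! ### The permutation model -/

/-- The natural action on three points. -/
def act3 : DihedralGroup 3 → Fin 3 → Fin 3
  | r i, x => (x + (show Fin 3 from i))
  | sr i, x => -(x + (show Fin 3 from i))

theorem act3_one : ∀ x, act3 1 x = x := by decide +kernel

theorem act3_mul : ∀ s t x, act3 (s * t) x = act3 s (act3 t x) := by decide +kernel

/-- The permutation representation of degree three. -/
def perm3 : DihedralGroup 3 →* Equiv.Perm (Fin 3) where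
  toFun s :=
    { toFun := act3 s
      invFun := act3 s⁻¹
      left_inv := fun x => by rw [← act3_mul, inv_mul_cancel, act3_one]
      right_inv := fun x => by rw [← act3_mul, mul_inv_cancel, act3_one] }
  map_one' := Equiv.ext act3_one
  map_mul' s t := Equiv.ext (act3_mul s t)

/-- Selection of a coordinate. -/
def coord (w : W) : Fin 3 → DihedralGroup 3 := ![w.1, w.2.1, w.2.2]

theorem coord_mul (v w : W) (i : Fin 3) : coord (v * w) i = coord v i * coord w i := by
  fin_cases i <;> rfl

/-- The permutation representation of degree nine. -/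
def perm9 : W →* Equiv.Perm (Fin 9) where
  toFun w := (finProdFinEquiv (m := 3) (n := 3)).permCongr
    (Equiv.prodCongrRight fun i => perm3 (coord w i))
  map_one' := by
    ext x
    have : ∀ i, coord 1 i = 1 := fun i => by fin_cases i <;> rfl
    simp [Equiv.permCongr_apply, this, Equiv.prodCongrRight]
  map_mul' v w := by
    ext x
    simp [Equiv.permCongr_apply, coord_mul, Equiv.prodCongrRight]

/-- The generators, as permutations. -/
def gens : Set (Equiv.Perm (Fin 9)) :=
  {Equiv.swap (0 : Fin 9) 1 * Equiv.swap 1 2, Equiv.swap (3 : Fin 9) 4 * Equiv.swap 4 5,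
    Equiv.swap (6 : Fin 9) 7 * Equiv.swap 7 8,
    Equiv.swap (0 : Fin 9) 1 * Equiv.swap 3 4, Equiv.swap (0 : Fin 9) 1 * Equiv.swap 6 7}

theorem perm9_gens : ∀ x : Fin 9,
    perm9 (r 1, 1, 1) x = Equiv.swap (0 : Fin 9) 1 (Equiv.swap (1 : Fin 9) 2 x) ∧
    perm9 (1, r 1, 1) x = Equiv.swap (3 : Fin 9) 4 (Equiv.swap (4 : Fin 9) 5 x) ∧
    perm9 (1, 1, r 1) x = Equiv.swap (6 : Fin 9) 7 (Equiv.swap (7 : Fin 9) 8 x) ∧
    perm9 (sr 2, sr 2, 1) x = Equiv.swap (0 : Fin 9) 1 (Equiv.swap (3 : Fin 9) 4 x) ∧
    perm9 (sr 2, 1, sr 2) x = Equiv.swap (0 : Fin 9) 1 (Equiv.swap (6 : Fin 9) 7 x) := by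
  decide +kernel

/-- The even triples. -/
def M : Subgroup W where
  carrier := {w | even w = true}
  one_mem' := even_one
  mul_mem' {v w} hv hw := by
    have h : ∀ s t : DihedralGroup 3,
        decide (cl (s * t) ≠ 2) = (decide (cl s ≠ 2) == decide (cl t ≠ 2)) := by decide +kernel
    simp only [Set.mem_ofPred_eq, even, Prod.fst_mul, Prod.snd_mul, h] at hv hw ⊢
    revert hv hw
    generalize decide (cl v.1 ≠ 2) = a
    generalize decide (cl v.2.1 ≠ 2) = b
    generalize decide (cl v.2.2 ≠ 2) = c
    generalize decide (cl w.1 ≠ 2) = a'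
    generalize decide (cl w.2.1 ≠ 2) = b'
    generalize decide (cl w.2.2 ≠ 2) = c'
    revert a b c a' b' c'
    decide
  inv_mem' {w} hw := by
    have h : ∀ s : DihedralGroup 3, cl s⁻¹ = 2 ↔ cl s = 2 := by decide +kernel
    simpa [Set.mem_ofPred_eq, even, h] using hw

theorem mem_M {w : W} : w ∈ M ↔ even w = true := Iff.rfl

theorem closure_gens_W :
    Subgroup.closure ({(r 1, 1, 1), (1, r 1, 1), (1, 1, r 1), (sr 2, sr 2, 1),
      (sr 2, 1, sr 2)} : Set W) = M := by
  refine le_antisymm ((Subgroup.closure_le M).mpr ?_) fun w hw => ?_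
  · intro w hw
    simp only [Set.mem_insert_iff, Set.mem_singleton_iff] at hw
    rcases hw with rfl | rfl | rfl | rfl | rfl <;> exact mem_M.mpr (by decide +kernel)
  · have h : ∀ w : W, even w = true → ∃ i j k : Fin 3, ∃ p q : Fin 2,
        (r 1, 1, 1) ^ (i : ℕ) * (1, r 1, 1) ^ (j : ℕ) * (1, 1, r 1) ^ (k : ℕ) *
          (sr 2, sr 2, 1) ^ (p : ℕ) * (sr 2, 1, sr 2) ^ (q : ℕ) = w := by decide +kernel
    obtain ⟨i, j, k, p, q, rfl⟩ := h w (mem_M.mp hw)
    refine mul_mem (mul_mem (mul_mem (mul_mem ?_ ?_) ?_) ?_) ?_ <;>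
      exact pow_mem (Subgroup.subset_closure (by simp)) _

theorem map_perm9 : M.map perm9 = Subgroup.closure gens := by
  rw [← closure_gens_W, MonoidHom.map_closure]
  congr 1
  have h0 : perm9 (r 1, 1, 1) = Equiv.swap (0 : Fin 9) 1 * Equiv.swap 1 2 :=
    Equiv.ext fun x => (perm9_gens x).1
  have h1 : perm9 (1, r 1, 1) = Equiv.swap (3 : Fin 9) 4 * Equiv.swap 4 5 :=
    Equiv.ext fun x => (perm9_gens x).2.1
  have h2 : perm9 (1, 1, r 1) = Equiv.swap (6 : Fin 9) 7 * Equiv.swap 7 8 :=
    Equiv.ext fun x => (perm9_gens x).2.2.1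
  have h3 : perm9 (sr 2, sr 2, 1) = Equiv.swap (0 : Fin 9) 1 * Equiv.swap 3 4 :=
    Equiv.ext fun x => (perm9_gens x).2.2.2.1
  have h4 : perm9 (sr 2, 1, sr 2) = Equiv.swap (0 : Fin 9) 1 * Equiv.swap 6 7 :=
    Equiv.ext fun x => (perm9_gens x).2.2.2.2
  simp only [Set.image_insert_eq, Set.image_singleton, gens, h0, h1, h2, h3, h4]

theorem perm9_injective : Function.Injective perm9 := by
  rw [injective_iff_map_eq_one]
  intro w hw
  have h : ∀ w : W, (∀ x, perm9 w x = x) → w = 1 := by decide +kernel
  exact h w fun x => by simp [hw]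

/-- The group of the statement maps into the model. -/
theorem exists_model {H : Type*} [Group H] (e : H ≃* Subgroup.closure gens) :
    ∃ ι : H →* W, Function.Injective ι ∧ ∀ w, w ∈ ι.range ↔ even w = true := by
  let e' : M ≃* H :=
    ((M.equivMapOfInjective perm9 perm9_injective).trans (MulEquiv.subgroupCongr map_perm9)).trans
      e.symm
  refine ⟨M.subtype.comp e'.symm.toMonoidHom,
    fun x y h => e'.symm.injective (Subtype.ext h), fun w => ⟨?_, fun hw => ?_⟩⟩
  · rintro ⟨x, rfl⟩
    exact mem_M.mp (e'.symm x).2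
  · exact ⟨e' ⟨w, mem_M.mpr hw⟩, by simp⟩

end Cfsg.Agent.ThreeCubed
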