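import Mathlib.Data.Rat.Defs
import Mathlib.Algebra.Order.BigOperators.Ring.Finset
import Mathlib.Algebra.BigOperators.Fin
import Mathlib.Tactic.FieldSimp
import Mathlib.Tactic.Ring
import Mathlib.Tactic.Linarith
import Mathlib.Tactic.LinearCombination
import Mathlib.Algebra.Order.Field.Rat
import Mathlib.Algebra.Field.Rat

/-!
Integer vectors of small norm indexed by characters, with the degree and the value at an involution.
-/

set_option autoImplicit false
set_option linter.unusedSectionVars false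

namespace Cfsg.Agent.ThreeCubed.Arith

universe u

variable {I : Type u} [Fintype I] [DecidableEq I] {t : I} {d v : I → ℤ}

theorem eq_or_eq_neg_of_sq_le {a : ℤ} (h0 : a ≠ 0) (h : a * a < 4) : a = 1 ∨ a = -1 := by
  have h1 : a < 2 := by nlinarith
  have h2 : -2 < a := by nlinarith
  omega

theorem rest_sum (m : I → ℤ) (T : Finset I) :
    ∑ k ∈ Tᶜ, m k * m k = ∑ k, m k * m k - ∑ k ∈ T, m k * m k := by
  rw [eq_sub_iff_add_eq, add_comm, Finset.sum_add_sum_compl]

theorem rest_one {m : I → ℤ} {T : Finset I} {c : ℤ} (hT : ∑ k ∈ T, m k * m k = c)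
    (h : ∑ k, m k * m k = c + 1) :
    ∃ w, w ∉ T ∧ (m w = 1 ∨ m w = -1) ∧ ∀ k, k ∉ T → k ≠ w → m k = 0 := by
  have hs : ∑ k ∈ Tᶜ, m k * m k = 1 := by rw [rest_sum, hT, h]; ring
  obtain ⟨w, hw, hne⟩ := Finset.exists_ne_zero_of_sum_ne_zero (by rw [hs]; norm_num)
  have hge : 1 ≤ m w * m w := by
    have := mul_self_nonneg (m w)
    omega
  rw [← Finset.add_sum_erase _ _ hw] at hs
  have hrest := Finset.sum_nonneg (s := Tᶜ.erase w) fun k _ => mul_self_nonneg (m k)
  refine ⟨w, Finset.mem_compl.mp hw, eq_or_eq_neg_of_sq_le (fun e => hne (by simp [e]))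
    (by linarith), fun k hk hkw => ?_⟩
  exact mul_self_eq_zero.mp ((Finset.sum_eq_zero_iff_of_nonneg fun k _ => mul_self_nonneg (m k)).mp
    (by linarith) k (by simp [hk, hkw]))

theorem entries_small {m : I → ℤ} (h : ∑ k, m k * m k = 3) (k : I) :
    m k = 0 ∨ m k = 1 ∨ m k = -1 := by
  rcases eq_or_ne (m k) 0 with h0 | h0
  · exact Or.inl h0
  · refine Or.inr (eq_or_eq_neg_of_sq_le h0 ?_)
    have := Finset.single_le_sum (f := fun k => m k * m k) (s := Finset.univ)
      (fun k _ => mul_self_nonneg _) (Finset.mem_univ k)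
    omega

/-- A vector `1 + X + Y`. -/
structure Split (t : I) (m : I → ℤ) (i j : I) : Prop where
  hit : i ≠ t
  hjt : j ≠ t
  hij : i ≠ j
  ht : m t = 1
  hi : m i = 1 ∨ m i = -1
  hj : m j = 1 ∨ m j = -1
  hz : ∀ k, k ≠ t → k ≠ i → k ≠ j → m k = 0

theorem Split.symm {m : I → ℤ} {i j : I} (h : Split t m i j) : Split t m j i :=
  ⟨h.hjt, h.hit, h.hij.symm, h.ht, h.hj, h.hi, fun k a b c => h.hz k a c b⟩

theorem exists_split {m : I → ℤ} (ht : m t = 1) (h : ∑ k, m k * m k = 3) :
    ∃ i j, Split t m i j := by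
  have hs : ∑ k ∈ ({t} : Finset I)ᶜ, m k * m k = 2 := by
    rw [rest_sum, Finset.sum_singleton, ht, h]; ring
  obtain ⟨i, hi, hne⟩ := Finset.exists_ne_zero_of_sum_ne_zero (by rw [hs]; norm_num)
  have hit : i ≠ t := by simpa using hi
  have hi1 : m i = 1 ∨ m i = -1 := by
    rcases entries_small h i with h0 | h0
    · exact absurd (by simp [h0]) hne
    · exact h0
  obtain ⟨j, hj, hj1, hz⟩ := rest_one (m := m) (T := {t, i}) (c := 2) (by
    rw [Finset.sum_pair hit.symm, ht]
    rcases hi1 with e | e <;> rw [e] <;> norm_num) (by rw [h]; norm_num)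
  simp only [Finset.mem_insert, Finset.mem_singleton, not_or] at hj hz
  exact ⟨i, j, hit, hj.1, fun e => hj.2 e.symm, ht, hi1, hj1, fun k a b c => hz k ⟨a, b⟩ c⟩

theorem Split.sum_eq {R : Type*} [AddCommMonoid R] {m : I → ℤ} {i j : I} (h : Split t m i j)
    (φ : I → R) (hφ : ∀ k, m k = 0 → φ k = 0) : ∑ k, φ k = φ t + φ i + φ j := by
  rw [← Finset.sum_subset (Finset.subset_univ ({t, i, j} : Finset I)) fun k _ hk => by
    simp only [Finset.mem_insert, Finset.mem_singleton, not_or] at hk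
    exact hφ k (h.hz k hk.1 hk.2.1 hk.2.2)]
  rw [Finset.sum_insert (by simp [h.hit.symm, h.hjt.symm]), Finset.sum_pair h.hij, add_assoc]

theorem Split.dot {m : I → ℤ} {i j : I} (h : Split t m i j) (g : I → ℤ) :
    ∑ k, g k * m k = g t + g i * m i + g j * m j := by
  rw [h.sum_eq (fun k => g k * m k) fun k hk => by rw [hk, mul_zero], h.ht, mul_one]

theorem Split.eq_or {m : I → ℤ} {i j k : I} (h : Split t m i j) (hk : k ≠ t) (hm : m k ≠ 0) :
    k = i ∨ k = j := by
  by_contra hc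
  simp only [not_or] at hc
  exact hm (h.hz k hk hc.1 hc.2)

theorem Split.mne {m : I → ℤ} {i j : I} (h : Split t m i j) : m i ≠ 0 := by
  rcases h.hi with e | e <;> omega

/-- Two such vectors with inner product one have no further common constituent. -/
theorem disjoint_of_dot (hd : ∀ k, 0 < d k) {f f' : I → ℤ} (ht : f t = 1) (ht' : f' t = 1)
    (hn : ∑ k, f k * f k = 3) (hn' : ∑ k, f' k * f' k = 3)
    (h1 : ∑ k, f k * d k = 0) (h1' : ∑ k, f' k * d k = 0)
    (hdot : ∑ k, f k * f' k = 1) : ∀ k, k ≠ t → f k = 0 ∨ f' k = 0 := by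
  obtain ⟨i, j, h⟩ := exists_split ht hn
  obtain ⟨i', j', h'⟩ := exists_split ht' hn'
  intro k hk
  rw [or_iff_not_imp_left]
  intro hfk
  by_contra hf'k
  have hd1 : f' i * f i + f' j * f j = 0 := by
    have := h.dot f'
    rw [ht', Finset.sum_congr rfl fun k _ => mul_comm (f' k) (f k), hdot] at this
    linarith
  have hij' : f' i ≠ 0 ∧ f' j ≠ 0 := by
    rcases h.eq_or hk hfk with u | u <;> rw [u] at hf'k <;>
      rcases h.hi with a | a <;> rcases h.hj with b | b <;>
      rcases entries_small hn' i with c | c | c <;> rcases entries_small hn' j with e | e | e <;>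
      simp_all
  have hsplit : Split t f' i j := by
    refine ⟨h.hit, h.hjt, h.hij, ht', ?_, ?_, fun l a b c => ?_⟩
    · exact (entries_small hn' i).resolve_left hij'.1
    · exact (entries_small hn' j).resolve_left hij'.2
    · refine h'.hz l a (fun e => ?_) fun e => ?_ <;>
        rcases h'.eq_or h.hit hij'.1 with u1 | u1 <;>
        rcases h'.eq_or h.hjt hij'.2 with u2 | u2 <;> subst e <;>
        first
          | exact b u1.symm
          | exact c u2.symm
          | exact h.hij (u1.trans u2.symm)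
  have e1 := h.sum_eq (fun k => f k * d k) fun k hk => by rw [hk, zero_mul]
  have e2 := hsplit.sum_eq (fun k => f' k * d k) fun k hk => by rw [hk, zero_mul]
  have hdi := hd i
  have hdj := hd j
  rw [h1, ht] at e1
  rw [h1', ht'] at e2
  rcases h.hi with a | a <;> rcases h.hj with b | b <;> rcases hsplit.hi with c | c <;>
    rcases hsplit.hj with e | e <;> simp only [a, b, c, e] at e1 e2 hd1 <;> omega

/-- A vector with inner product one and no trivial part picks one constituent. -/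
theorem pick {f g : I → ℤ} (hf : f t = 1) (hn : ∑ k, f k * f k = 3)
    (hg : g t = 0) (hng : ∑ k, g k * g k = 3) (hdot : ∑ k, g k * f k = 1) :
    ∃ p p', Split t f p p' ∧ g p = f p ∧ g p' = 0 := by
  obtain ⟨i, j, h⟩ := exists_split hf hn
  have hd1 := h.dot g
  rw [hdot, hg] at hd1
  rcases eq_or_ne (g i) 0 with e | e
  · refine ⟨j, i, h.symm, ?_, e⟩
    rcases h.hj with b | b <;> rw [e, b] at hd1 <;> rw [b] <;> linarith
  · refine ⟨i, j, h, ?_, ?_⟩ <;>
    rcases h.hi with a | a <;> rcases h.hj with b | b <;>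
      rcases entries_small hng i with c | c | c <;> rcases entries_small hng j with c' | c' | c' <;>
      simp only [a, b, c, c'] at hd1 e ⊢ <;> omega

/-- The sum `∑ m v² / d`. -/
def Lsum (d v m : I → ℤ) : ℚ := ∑ k, (m k : ℚ) * (v k : ℚ) ^ 2 / (d k : ℚ)

theorem term_eq (hd : ∀ k, 0 < d k) {m : I → ℤ} {k : I} (h : m k = 1 ∨ m k = -1) :
    (m k : ℚ) * (v k : ℚ) ^ 2 / (d k : ℚ) =
      ((m k * v k : ℤ) : ℚ) ^ 2 / ((m k * d k : ℤ) : ℚ) := by
  have : (d k : ℚ) ≠ 0 := by exact_mod_cast (hd k).ne'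
  rcases h with e | e <;> rw [e] <;> push_cast <;> field_simp

theorem deg_ne (hd : ∀ k, 0 < d k) {m : I → ℤ} {k : I} (h : m k = 1 ∨ m k = -1) :
    m k * d k ≠ 0 := by
  have := hd k
  rcases h with e | e <;> rw [e] <;> omega

/-- Data of a vector `1 + X + Y`. -/
theorem Split.data (hd : ∀ k, 0 < d k) (hdt : d t = 1) (hvt : v t = 1) {f : I → ℤ} {i j : I}
    (h : Split t f i j) (h1 : ∑ k, f k * d k = 0) (h2 : ∑ k, f k * v k = 0) :
    f j * d j = -1 - f i * d i ∧ f j * v j = -1 - f i * v i ∧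
      f i * d i ≠ 0 ∧ 1 + f i * d i ≠ 0 ∧
      Lsum d v f * ((f i * d i : ℤ) * (1 + (f i * d i : ℤ)) : ℚ) =
        ((f i * d i : ℤ) - (f i * v i : ℤ) : ℚ) ^ 2 := by
  have e1 := h.sum_eq (fun k => f k * d k) fun k hk => by rw [hk, zero_mul]
  have e2 := h.sum_eq (fun k => f k * v k) fun k hk => by rw [hk, zero_mul]
  rw [h1, h.ht, hdt] at e1
  rw [h2, h.ht, hvt] at e2
  have hY : f j * d j = -1 - f i * d i := by linarith
  have hy : f j * v j = -1 - f i * v i := by linarith
  have hX0 := deg_ne hd h.hi (k := i)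
  have hY0 := deg_ne hd h.hj (k := j)
  refine ⟨hY, hy, hX0, fun e => hY0 (by linarith), ?_⟩
  rw [Lsum, h.sum_eq (fun k => (f k : ℚ) * (v k : ℚ) ^ 2 / (d k : ℚ))
    (fun k hk => by simp [hk]), term_eq hd h.hi, term_eq hd h.hj, h.ht, hdt, hvt, hY, hy]
  have a1 : ((f i * d i : ℤ) : ℚ) ≠ 0 := by exact_mod_cast hX0
  have a2 : ((-1 - f i * d i : ℤ) : ℚ) ≠ 0 := by exact_mod_cast hY ▸ hY0
  generalize (f i * d i : ℤ) = X at a1 a2 ⊢
  generalize (f i * v i : ℤ) = x
  push_cast at a1 a2 ⊢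
  field_simp
  ring

/-- A vector with three constituents. -/
theorem sum_three {R : Type*} [AddCommMonoid R] {g : I → ℤ} {p q w : I} (hpq : p ≠ q)
    (hpw : p ≠ w) (hqw : q ≠ w) (hz : ∀ k, k ≠ p → k ≠ q → k ≠ w → g k = 0)
    (φ : I → R) (hφ : ∀ k, g k = 0 → φ k = 0) : ∑ k, φ k = φ p + φ q + φ w := by
  rw [← Finset.sum_subset (Finset.subset_univ ({p, q, w} : Finset I)) fun k _ hk => by
    simp only [Finset.mem_insert, Finset.mem_singleton, not_or] at hk
    exact hφ k (hz k hk.1 hk.2.1 hk.2.2)]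
  rw [Finset.sum_insert (by simp [hpq, hpw]), Finset.sum_pair hqw, add_assoc]

end Cfsg.Agent.ThreeCubed.Arith
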