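import Cfsg.Agent.Lib.Recog.ThreeCubed.Single
import Cfsg.Agent.Lib.Basics.CoprimeGen
import Mathlib.GroupTheory.Transfer

/-!
A group with such a subgroup coincides with it.
-/

set_option autoImplicit false
set_option linter.unusedSectionVars false
set_option linter.style.haveILetI false

namespace Cfsg.Agent.ThreeCubed.Setup

universe u

variable {G : Type u} [Group G] {H T : Subgroup G} {ι : H →* W}
  [Fintype G] [Fintype H]

theorem fA_mem : fA ∈ tables := by simp [tables]
theorem fB_mem : fB ∈ tables := by simp [tables]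
theorem fC_mem : fC ∈ tables := by simp [tables]
theorem gA_mem : gA ∈ tables := by simp [tables]
theorem gB_mem : gB ∈ tables := by simp [tables]
theorem fR_mem : fR ∈ tables := by simp [tables]

theorem r_one_ne : DihedralGroup.r (1 : ZMod 3) ≠ 1 := by decide

theorem trans_ne : (1 : W) ≠ trans 0 1 0 := by decide

/-- All three involution types cannot be fused. -/
theorem not_all_fused (S : Setup H T ι) {hA hB hC : H} (eA : ι hA = repA) (eB : ι hB = repB)
    (eC : ι hC = repC) (fAB : IsConj (hA : G) (hB : G)) (fAC : IsConj (hA : G) (hC : G)) :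
    False := by
  classical
  have hAtyp : typAll (ι hA) = true := by rw [eA]; decide
  have hu := S.rep_sq hAtyp
  have hP : ∀ h : H, IsConj (hA : G) (h : G) ↔ typAll (ι h) = true := by
    intro h
    refine ⟨S.typ_of_conj hAtyp, fun h' => ?_⟩
    simp only [typAll, Bool.or_eq_true] at h'
    rcases h' with (a | b) | c
    · exact S.conj_A eA a
    · exact fAB.trans (S.conj_B eB b)
    · exact fAC.trans (S.conj_C eC c)
  have hid : ∀ {F : W → ℤ}, F ∈ tables →
      108 * (kappa (hA : G) * Arith.Lsum cdeg (cval (hA : G)) (coef ι F)) = (pairSum typAll F : ℚ) :=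
    fun hF => S.pair_identity hF hu typAll (fun w hw => typ_even w hw) hP
  obtain ⟨v1, v2, v3, v4, v5, v6⟩ := pairSum_all
  have l1 := hid fA_mem
  have l2 := hid fB_mem
  have l3 := hid fC_mem
  have l4 := hid gA_mem
  have l5 := hid gB_mem
  have l6 := hid fR_mem
  rw [v1] at l1; rw [v2] at l2; rw [v3] at l3; rw [v4] at l4; rw [v5] at l5; rw [v6] at l6
  push_cast at l1 l2 l3 l4 l5 l6
  have hk := (kappa_pos (hA : G)).ne'
  obtain ⟨n1, n2, n3, n4, n5, n6, o1, o2, o3, o4, o5, o6⟩ := dot_values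
  obtain ⟨m1, m2, m3, m4, m5, m6, m7, m8, m9, m10, m11, m12, m13, m14, m15, -, -, -⟩ :=
    dot_values_mixed
  have d1 := S.coef_dot fA_mem fB_mem
  have d2 := S.coef_dot fA_mem fC_mem
  have d3 := S.coef_dot fB_mem fC_mem
  have d4 := S.coef_dot gA_mem fA_mem
  have d5 := S.coef_dot gA_mem fB_mem
  have d6 := S.coef_dot gA_mem fC_mem
  have d7 := S.coef_dot gB_mem fB_mem
  have d8 := S.coef_dot gB_mem fA_mem
  have d9 := S.coef_dot gB_mem fC_mem
  have d10 := S.coef_dot gA_mem gB_mem
  have d11 := S.coef_dot fR_mem fA_mem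
  have d12 := S.coef_dot fR_mem fB_mem
  have d13 := S.coef_dot fR_mem fC_mem
  have d14 := S.coef_dot fR_mem gA_mem
  have d15 := S.coef_dot fR_mem gB_mem
  have d16 := S.coef_dot fR_mem fR_mem
  have hRt := S.coef_lin fR_mem (CT.trivIrr G) one' (fun h => by simp [one'])
  have cancel : ∀ {a b : ℚ}, 108 * (kappa (hA : G) * a) = 108 * (kappa (hA : G) * b) → a = b :=
    fun e => mul_left_cancel₀ hk (mul_left_cancel₀ (by norm_num) e)
  obtain ⟨i, j, hij, hdi, hdj, hvi, hvj⟩ := Arith.case_all (t := CT.trivIrr G) cdeg_pos cdeg_triv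
    (cval_triv (hA : G)) (S.coef_isF fA_mem n1 o1 hu) (S.coef_isF fB_mem n2 o2 hu)
    (S.coef_isF fC_mem n3 o3 hu) (S.coef_isG gA_mem n4 o4 hu) (S.coef_isG gB_mem n5 o5 hu)
    (R := coef ι fR) (by omega) (by omega) (S.coef_deg fR_mem) (S.coef_val fR_mem hu)
    (by omega) (by omega) (by omega) (by omega) (by omega) (by omega) (by omega) (by omega)
    (by omega) (by omega) (by omega) (by omega) (by omega) (by omega) (by omega)
    (cancel (by rw [l1, l2])) (cancel (by rw [l2, l3]))
    (cancel (by rw [l4]; ring)) (cancel (by rw [l5]; ring))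
    (cancel (by linear_combination 2 * l6 - 3 * l1))
    (fun e => by rw [e] at l1; norm_num at l1)
  -- two linear characters
  have hom : ∀ χ : IrrCharacter G, cdeg χ = 1 → cval (hA : G) χ ≠ 1 →
      ∃ lam : G →* ℂˣ, (χ : G → ℂ) = (fun g => (lam g : ℂ)) ∧ (lam (hA : G) : ℂ) = -1 := by
    intro χ h1 h2
    obtain ⟨lam, hlam⟩ := CT.exists_hom_of_degree_one (CT.isCharacter_of_isIrr χ.2)
      (by rw [cdeg_eq, h1]; simp)
    refine ⟨lam, hlam, ?_⟩
    have hsq : (lam (hA : G) : ℂ) * (lam (hA : G) : ℂ) = 1 := by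
      rw [← Units.val_mul, ← map_mul, hu, map_one, Units.val_one]
    refine (mul_self_eq_one_iff.mp hsq).resolve_left fun e => h2 ?_
    have := cval_eq hu χ
    rw [hlam] at this
    simp only [e] at this
    exact_mod_cast this.symm
  obtain ⟨li, hli, hli'⟩ := hom i hdi hvi
  obtain ⟨lj, hlj, hlj'⟩ := hom j hdj hvj
  set μ : G →* ℂˣ := li * lj⁻¹ with hμ
  have hμA : (hA : G) ∈ μ.ker := by
    have : li (hA : G) = lj (hA : G) := Units.ext (by rw [hli', hlj'])
    simp [hμ, MonoidHom.mem_ker, this]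
  have hinv : ∀ h : H, typAll (ι h) = true → (h : G) ∈ μ.ker := by
    intro h hh
    obtain ⟨c, hc⟩ := isConj_iff.mp ((hP h).mpr hh)
    rw [← hc]
    exact μ.normal_ker.conj_mem _ hμA c
  have hHker : H ≤ μ.ker := by
    intro x hx
    obtain ⟨i, j, k, p, q, e⟩ := decomposition _ (S.even_apply ⟨x, hx⟩)
    obtain ⟨t1, t2, t3⟩ := typ_decomposition i j k
    obtain ⟨a, ha⟩ := S.exists_pre (w := (DihedralGroup.sr i, DihedralGroup.sr 0, 1)) (typ_even _ (by simp [t1]))
    obtain ⟨b, hb⟩ := S.exists_pre (w := (DihedralGroup.sr 0, DihedralGroup.sr j, 1)) (typ_even _ (by simp [t2]))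
    obtain ⟨c, hc⟩ := S.exists_pre (w := (DihedralGroup.sr 0, 1, DihedralGroup.sr k)) (typ_even _ (by simp [t3]))
    have hx' : (⟨x, hx⟩ : H) = hA * a * (hA * b) * (hB * c) * hA ^ (p : ℕ) * hB ^ (q : ℕ) :=
      S.inj (by simp [eA, eB, ha, hb, hc, e])
    have m1 := hinv a (by rw [ha]; simp [typAll, t1])
    have m2 := hinv b (by rw [hb]; simp [typAll, t2])
    have m3 := hinv c (by rw [hc]; simp [typAll, t3])
    have m4 := hinv hB (by rw [eB]; decide)
    have := congrArg Subtype.val hx'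
    simp only [Subgroup.coe_mul, Subgroup.coe_pow] at this
    rw [this]
    exact mul_mem (mul_mem (mul_mem (mul_mem (mul_mem hμA m1) (mul_mem hμA m2)) (mul_mem m4 m3))
      (pow_mem hμA _)) (pow_mem m4 _)
  haveI := μ.normal_ker
  have htop : μ.ker = ⊤ := by
    rw [← S.frattini μ.ker (S.hTH.trans hHker), sup_eq_right.mpr hHker]
  refine hij (Subtype.ext ?_)
  rw [hli, hlj]
  funext g
  have hg : g ∈ μ.ker := htop ▸ Subgroup.mem_top g
  simp [hμ, MonoidHom.mem_ker, mul_inv_eq_one] at hg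
  rw [hg]

/-- When only two types are fused we get a contradiction as well. -/
theorem not_pair_fused (S : Setup H T ι) {hA hB hC : H} (eA : ι hA = repA) (eB : ι hB = repB)
    (eC : ι hC = repC) (fAB : IsConj (hA : G) (hB : G)) (nA : ¬ IsConj (hC : G) (hA : G))
    {sgn : G →* ℂˣ} (hsgn : ∀ h : H, (sgn h : ℂ) = (lamC (ι h) : ℂ)) : False := by
  classical
  have hAtyp : typAll (ι hA) = true := by rw [eA]; decide
  have hu := S.rep_sq hAtyp
  have hP : ∀ h : H, IsConj (hA : G) (h : G) ↔ (typA (ι h) || typB (ι h)) = true := by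
    intro h
    refine ⟨fun hc => ?_, fun h' => ?_⟩
    · have := S.typ_of_conj hAtyp hc
      simp only [typAll, Bool.or_eq_true] at this ⊢
      rcases this with h' | c
      · exact h'
      · exact absurd ((S.conj_C eC c).trans hc.symm) nA
    · simp only [Bool.or_eq_true] at h'
      rcases h' with a | b
      · exact S.conj_A eA a
      · exact fAB.trans (S.conj_B eB b)
  have hid : ∀ {F : W → ℤ}, F ∈ tables → 108 * (kappa (hA : G) *
      Arith.Lsum cdeg (cval (hA : G)) (coef ι F)) =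
      (pairSum (fun w => typA w || typB w) F : ℚ) :=
    fun hF => S.pair_identity hF hu _ (fun w hw => typ_even w (by simp [hw])) hP
  obtain ⟨v1, v2, v3⟩ := pairSum_AB
  have l1 := hid fC_mem
  have l2 := hid fB_mem
  have l3 := hid gA_mem
  rw [v1] at l1; rw [v2] at l2; rw [v3] at l3
  push_cast at l1 l2 l3
  have hk := (kappa_pos (hA : G)).ne'
  obtain ⟨n1, n2, n3, n4, n5, n6, o1, o2, o3, o4, o5, o6⟩ := dot_values
  obtain ⟨m1, m2, m3, m4, m5, m6, m7, m8, m9, m10, m11, m12, m13, m14, m15, m16, m17, -⟩ :=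
    dot_values_mixed
  have d1 := S.coef_dot fB_mem fC_mem
  have d2 := S.coef_dot gA_mem fB_mem
  set s : IrrCharacter G := CT.linIrr sgn with hs
  have hsv : ∀ g : G, (s : G → ℂ) g = (sgn g : ℂ) := fun g => rfl
  have hsd : cdeg s = 1 := by
    have := cdeg_eq s
    rw [hsv, map_one, Units.val_one] at this
    exact_mod_cast this.symm
  have hsvl : cval (hA : G) s = -1 := by
    have := cval_eq hu s
    rw [hsv, hsgn, eA] at this
    have h : lamC repA = -1 := by decide
    rw [h] at this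
    exact_mod_cast this.symm
  have hst : s ≠ CT.trivIrr G := fun e => by
    rw [e, cval_triv] at hsvl
    omega
  have l4 := S.coef_lin fC_mem s lamC hsgn
  have l5 := S.coef_lin gA_mem s lamC hsgn
  have cancel : ∀ {a b : ℚ}, 108 * (kappa (hA : G) * a) = 108 * (kappa (hA : G) * b) → a = b :=
    fun e => mul_left_cancel₀ hk (mul_left_cancel₀ (by norm_num) e)
  obtain ⟨i, hdi, hvi⟩ := Arith.case_pair (t := CT.trivIrr G) cdeg_pos cdeg_triv
    (cval_triv (hA : G)) (S.coef_isF fB_mem n2 o2 hu) (S.coef_isF fC_mem n3 o3 hu)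
    (S.coef_isG gA_mem n4 o4 hu) (by omega) (by omega) hst (by omega) (by omega) hsd hsvl
    (cancel (by linear_combination l1 - 4 * l2)) (cancel (by rw [l3, l2]))
  obtain ⟨lam, hlam⟩ := CT.exists_hom_of_degree_one (CT.isCharacter_of_isIrr i.2)
    (by rw [cdeg_eq, hdi]; simp)
  have := cval_eq hu i
  rw [hlam, hvi] at this
  exact (lam (hA : G)).ne_zero (by simpa using this)

/-- Two sign characters force `H` to be everything. -/
theorem eq_top_of_two_signs (S : Setup H T ι) {s₁ s₂ : G →* ℂˣ}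
    (h₁ : ∀ h : H, (s₁ h : ℂ) = (lamC (ι h) : ℂ))
    (h₂ : ∀ h : H, (s₂ h : ℂ) = (lamC (swap13 (ι h)) : ℂ)) : H = ⊤ := by
  classical
  haveI : Fact (Nat.Prime 3) := ⟨Nat.prime_three⟩
  haveI := s₁.normal_ker
  haveI := s₂.normal_ker
  set M₀ := s₁.ker ⊓ s₂.ker with hM
  haveI : M₀.Normal := Subgroup.normal_inf_normal _ _
  have hlam : ∀ w : W, lamC w = 1 ↔ cl w.1 ≠ 2 := by decide +kernel
  have hmem : ∀ h : H, (h : G) ∈ M₀ ↔ rot (ι h) = true := by
    intro h
    have a1 : (h : G) ∈ s₁.ker ↔ lamC (ι h) = 1 := by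
      rw [MonoidHom.mem_ker, ← Units.val_eq_one, h₁]
      exact_mod_cast Iff.rfl
    have a2 : (h : G) ∈ s₂.ker ↔ lamC (swap13 (ι h)) = 1 := by
      rw [MonoidHom.mem_ker, ← Units.val_eq_one, h₂]
      exact_mod_cast Iff.rfl
    rw [hM, Subgroup.mem_inf, a1, a2, hlam, hlam]
    refine ⟨fun e => rot_both _ (S.even_apply h) e.1 e.2, fun e => ?_⟩
    simp only [rot, Bool.and_eq_true, decide_eq_true_eq] at e
    exact ⟨e.1.1, e.2⟩
  have hTM : T ≤ M₀ := fun x hx => (hmem ⟨x, S.hTH hx⟩).mpr ((S.mem_T_iff ⟨x, S.hTH hx⟩).mp hx)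
  have hp : IsPGroup 3 (T.subgroupOf M₀) :=
    S.isPGroup_T.of_equiv (Subgroup.subgroupOfEquivOfLe hTM).symm
  set P : Sylow 3 M₀ := hp.toSylow (S.not_dvd_index M₀ hTM) with hPdef
  have hnc : Subgroup.normalizer (P : Set M₀) ≤ Subgroup.centralizer (P : Set M₀) := by
    intro x hx
    have hxH : (x : G) ∈ H := by
      refine S.mem_H_of_map fun y hy => ?_
      have hy' : (⟨y, hTM hy⟩ : M₀) ∈ (P : Subgroup M₀) := hy
      have := (Subgroup.mem_normalizer_iff.mp hx ⟨y, hTM hy⟩).mp hy'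
      exact this
    have hxT : (x : G) ∈ T := (S.mem_T_iff ⟨x, hxH⟩).mpr ((hmem ⟨x, hxH⟩).mp x.2)
    refine Subgroup.mem_centralizer_iff.mpr fun y hy => Subtype.ext ?_
    exact S.T_comm (x := (y : G)) hy hxT
  set O := (MonoidHom.transferSylow P hnc).ker with hO
  have hcompl := MonoidHom.ker_transferSylow_isComplement' P hnc
  have hdvd := MonoidHom.not_dvd_card_ker_transferSylow P hnc
  set K := O.map M₀.subtype with hK
  have hcardK : Nat.card K = Nat.card O := Subgroup.card_map_of_injective M₀.subtype_injective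
  obtain ⟨a, ha⟩ := S.exists_pre (rot_even _ (rot_trans 1 0 0))
  obtain ⟨b, hb⟩ := S.exists_pre (rot_even _ (rot_trans 0 1 0))
  have haT : (a : G) ∈ T := (S.mem_T_iff a).mpr (by rw [ha]; exact rot_trans _ _ _)
  have hbT : (b : G) ∈ T := (S.mem_T_iff b).mpr (by rw [hb]; exact rot_trans _ _ _)
  haveI : IsMulCommutative T := ⟨⟨fun x y => Subtype.ext (S.T_comm x.2 y.2)⟩⟩
  have hTK : T ≤ Subgroup.normalizer (K : Set G) := by
    intro x hx
    have : Subgroup.normalizer (O : Set M₀) = ⊤ := Subgroup.normalizer_eq_top_iff.mpr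
      (MonoidHom.normal_ker _)
    have h' := Subgroup.le_normalizer_map (H := O) M₀.subtype
      (Subgroup.mem_map_of_mem M₀.subtype (this ▸ Subgroup.mem_top (⟨x, hTM hx⟩ : M₀)))
    exact h'
  have hcop : Nat.Coprime 3 (Nat.card K) := by
    rw [hcardK]
    exact (Nat.Prime.coprime_iff_not_dvd Nat.prime_three).mpr hdvd
  have hp3 : ∀ x ∈ T, x ^ 3 = 1 := by
    intro x hx
    have hr := (S.mem_T_iff ⟨x, S.hTH hx⟩).mp hx
    have h3 : ∀ w : W, rot w = true → w * w * w = 1 := by decide +kernel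
    have h4 := h3 _ hr
    rw [← map_mul, ← map_mul, S.eq_one_iff] at h4
    rw [pow_succ, pow_two]
    exact congrArg Subtype.val h4
  have hle := Basics.le_genCent T 3 (a : G) (b : G) haT hbT K hTK
    (by rw [S.hT]; exact (hcop.pow_left 3 : Nat.Coprime (3 ^ 3) _)) hcop
    (by rw [hp3 _ haT]; exact one_mem _) (by rw [hp3 _ hbT]; exact one_mem _)
  have hKH : K ≤ H := by
    refine hle.trans (sup_le (iSup_le fun j => inf_le_right.trans (S.hC _ ?_ ?_))
      (inf_le_right.trans (S.hC _ hbT ?_)))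
    · exact mul_mem haT (pow_mem hbT j)
    · intro e
      have h5 : a * b ^ j = 1 := Subtype.ext (by simpa using e)
      have h6 := congrArg (fun h => (ι h).1) h5
      simp only [map_mul, map_pow, ha, hb, map_one, Prod.fst_mul, Prod.pow_fst] at h6
      simp [trans] at h6
      exact absurd h6 r_one_ne
    · intro e
      have h5 : b = 1 := Subtype.ext e
      rw [h5, map_one] at hb
      exact absurd hb trans_ne
  have hMH : M₀ ≤ H := by
    intro x hx
    obtain ⟨⟨o, p⟩, hop⟩ := hcompl.2 ⟨x, hx⟩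
    have hval : ((o : M₀) : G) * ((p : M₀) : G) = x := congrArg Subtype.val hop
    rw [← hval]
    exact mul_mem (hKH (Subgroup.mem_map_of_mem _ o.2)) (S.hTH p.2)
  rw [← S.frattini M₀ hTM, sup_eq_left.mpr hMH]

/-- The main theorem for a third type which is fused with no other. -/
theorem eq_top_of_single (S : Setup H T ι) {hA hB hC : H} (eA : ι hA = repA) (eB : ι hB = repB)
    (eC : ι hC = repC) (nA : ¬ IsConj (hC : G) (hA : G)) (nB : ¬ IsConj (hC : G) (hB : G)) :
    H = ⊤ := by
  obtain ⟨sgn, hsgn⟩ := S.exists_sign eA eB eC nA nB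
  by_cases fAB : IsConj (hA : G) (hB : G)
  · exact (S.not_pair_fused eA eB eC fAB nA hsgn).elim
  · obtain ⟨sA, hsA⟩ := (S.comp_perm swap13 fun w => (even_swap w).1).exists_sign
      (hA := hC) (hB := hB) (hC := hA) (by simp [eC, swap_reps.2.2.1])
      (by simp [eB, swap_reps.2.1]) (by simp [eA, swap_reps.1])
      (fun h => nA h.symm) fAB
    exact S.eq_top_of_two_signs hsgn hsA

/-- The group coincides with the subgroup. -/
theorem eq_top (S : Setup H T ι) : H = ⊤ := by
  obtain ⟨hA, eA⟩ := S.exists_pre typ_rep.2.2.2.1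
  obtain ⟨hB, eB⟩ := S.exists_pre typ_rep.2.2.2.2.1
  obtain ⟨hC, eC⟩ := S.exists_pre typ_rep.2.2.2.2.2
  by_cases hC1 : IsConj (hC : G) (hA : G) <;> by_cases hC2 : IsConj (hC : G) (hB : G)
  · exact (S.not_all_fused eA eB eC (hC1.symm.trans hC2) hC1.symm).elim
  · refine (S.comp_perm swap12 fun w => (even_swap w).2).eq_top_of_single
      (hA := hA) (hB := hC) (hC := hB) (by simp [eA, swap_reps.2.2.2.1])
      (by simp [eC, swap_reps.2.2.2.2.2]) (by simp [eB, swap_reps.2.2.2.2.1])
      (fun h => hC2 (hC1.trans h.symm)) (fun h => hC2 h.symm)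
  · refine (S.comp_perm swap13 fun w => (even_swap w).1).eq_top_of_single
      (hA := hC) (hB := hB) (hC := hA) (by simp [eC, swap_reps.2.2.1])
      (by simp [eB, swap_reps.2.1]) (by simp [eA, swap_reps.1])
      (fun h => hC1 h.symm) (fun h => hC1 (hC2.trans h.symm))
  · exact S.eq_top_of_single eA eB eC hC1 hC2

end Cfsg.Agent.ThreeCubed.Setup
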