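import Cfsg.Agent.Lib.Recog.ThreeCubed.Arith
import Mathlib.Tactic.IntervalCases

/-!
The three fusion cases, as statements about integer vectors.
-/

set_option autoImplicit false
set_option linter.unusedSectionVars false

namespace Cfsg.Agent.ThreeCubed.Arith

universe u

variable {I : Type u} [Fintype I] [DecidableEq I] {t : I} {d v : I → ℤ}

/-- A vector of norm three with `m t = 1` and orthogonal to degrees and values. -/
structure IsF (t : I) (d v m : I → ℤ) : Prop where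
  ht : m t = 1
  norm : ∑ k, m k * m k = 3
  deg : ∑ k, m k * d k = 0
  val : ∑ k, m k * v k = 0

/-- A vector of norm three with `m t = 0` and orthogonal to degrees and values. -/
structure IsG (t : I) (d v m : I → ℤ) : Prop where
  ht : m t = 0
  norm : ∑ k, m k * m k = 3
  deg : ∑ k, m k * d k = 0
  val : ∑ k, m k * v k = 0

theorem case_single (hd : ∀ k, 0 < d k) (hdt : d t = 1) (hvt : v t = 1) {f : I → ℤ}
    (hf : IsF t d v f) (hL : Lsum d v f = 0) : ∃ i, i ≠ t ∧ v i = d i := by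
  obtain ⟨i, j, h⟩ := exists_split hf.ht hf.norm
  obtain ⟨-, -, -, -, e⟩ := h.data hd hdt hvt hf.deg hf.val
  rw [hL, zero_mul, eq_comm, pow_eq_zero_iff two_ne_zero, sub_eq_zero] at e
  have e' : f i * d i = f i * v i := by exact_mod_cast e
  exact ⟨i, h.hit, (mul_left_cancel₀ h.mne e').symm⟩

/-- The constituents of `g` when it meets two vectors `f` in one constituent each. -/
theorem g_shape {fa fb fc g : I → ℤ} (ha : IsF t d v fa) (hb : IsF t d v fb) (hc : IsF t d v fc)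
    (hg : IsG t d v g) (hab : ∀ k, k ≠ t → fa k = 0 ∨ fb k = 0)
    (hac : ∀ k, k ≠ t → fa k = 0 ∨ fc k = 0) (hbc : ∀ k, k ≠ t → fb k = 0 ∨ fc k = 0)
    (ga : ∑ k, g k * fa k = 0) (gb : ∑ k, g k * fb k = 1) (gc : ∑ k, g k * fc k = 1) :
    ∃ p p' q q' w, Split t fb p p' ∧ Split t fc q q' ∧ g p = fb p ∧ g q = fc q ∧
      p ≠ q ∧ p ≠ w ∧ q ≠ w ∧ w ≠ t ∧ (g w = 1 ∨ g w = -1) ∧
      fa w = 0 ∧ fb w = 0 ∧ fc w = 0 ∧
      (∀ k, k ≠ p → k ≠ q → k ≠ w → g k = 0) ∧ (∀ k, k ≠ t → fa k ≠ 0 → g k = 0) := by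
  obtain ⟨p, p', hp, hgp, hgp'⟩ := pick hb.ht hb.norm hg.ht hg.norm gb
  obtain ⟨q, q', hq, hgq, hgq'⟩ := pick hc.ht hc.norm hg.ht hg.norm gc
  have hpq : p ≠ q := fun e =>
    (hbc p hp.hit).elim hp.mne (fun h => hq.mne (e ▸ h))
  obtain ⟨w, hw, hw1, hz⟩ := rest_one (m := g) (T := {p, q}) (c := 2) (by
    rw [Finset.sum_pair hpq, hgp, hgq]
    rcases hp.hi with a | a <;> rcases hq.hi with b | b <;> rw [a, b] <;> norm_num)
    (by rw [hg.norm]; norm_num)
  simp only [Finset.mem_insert, Finset.mem_singleton, not_or] at hw hz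
  have hwt : w ≠ t := fun e => by
    rw [e, hg.ht] at hw1
    omega
  have hz' : ∀ k, k ≠ p → k ≠ q → k ≠ w → g k = 0 := fun k a b c => hz k ⟨a, b⟩ c
  have hgw : g w ≠ 0 := by omega
  have hwb : fb w = 0 := hp.hz w hwt hw.1 fun e => hgw (e ▸ hgp')
  have hwc : fc w = 0 := hq.hz w hwt hw.2 fun e => hgw (e ▸ hgq')
  have hap : fa p = 0 := (hab p hp.hit).resolve_right hp.mne
  have haq : fa q = 0 := (hac q hq.hit).resolve_right hq.mne
  have hwa : fa w = 0 := by
    rw [sum_three hpq (Ne.symm hw.1) (Ne.symm hw.2) hz' (fun k => g k * fa k)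
      (fun k hk => by rw [hk, zero_mul]), hap, haq] at ga
    rcases hw1 with a | a <;> rw [a] at ga <;> linarith
  exact ⟨p, p', q, q', w, hp, hq, hgp, hgq, hpq, Ne.symm hw.1, Ne.symm hw.2, hwt, hw1, hwa, hwb,
    hwc, hz', fun k _ hk => hz' k (fun e => hk (e ▸ hap)) (fun e => hk (e ▸ haq))
      (fun e => hk (e ▸ hwa))⟩

/-- Equal degrees and values for the two shared constituents. -/
theorem g_data (hd : ∀ k, 0 < d k) (hdt : d t = 1) (hvt : v t = 1) {fb fc g : I → ℤ} {p p' q q' w : I}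
    (hb : IsF t d v fb) (hc : IsF t d v fc) (hg : IsG t d v g) (hp : Split t fb p p')
    (hq : Split t fc q q') (hgp : g p = fb p) (hgq : g q = fc q) (hpq : p ≠ q) (hpw : p ≠ w)
    (hqw : q ≠ w) (hw1 : g w = 1 ∨ g w = -1) (hz : ∀ k, k ≠ p → k ≠ q → k ≠ w → g k = 0)
    (hLg : Lsum d v g = 0) (hLbc : Lsum d v fb = Lsum d v fc) (hLb : Lsum d v fb ≠ 0) :
    fc q * d q = fb p * d p ∧ fc q * v q = fb p * v p ∧
      g w * d w = -2 * (fb p * d p) ∧ g w * v w = -2 * (fb p * v p) := by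
  obtain ⟨-, -, hP0, hP1, eb⟩ := hp.data hd hdt hvt hb.deg hb.val
  obtain ⟨-, -, hQ0, hQ1, ec⟩ := hq.data hd hdt hvt hc.deg hc.val
  have e1 := sum_three hpq hpw hqw hz (fun k => g k * d k) fun k hk => by rw [hk, zero_mul]
  have e2 := sum_three hpq hpw hqw hz (fun k => g k * v k) fun k hk => by rw [hk, zero_mul]
  rw [hg.deg, hgp, hgq] at e1
  rw [hg.val, hgp, hgq] at e2
  have hP : g p = 1 ∨ g p = -1 := hgp ▸ hp.hi
  have hQ : g q = 1 ∨ g q = -1 := hgq ▸ hq.hi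
  have hW0 := deg_ne hd hw1 (k := w)
  rw [Lsum, sum_three hpq hpw hqw hz (fun k => (g k : ℚ) * (v k : ℚ) ^ 2 / (d k : ℚ))
    (fun k hk => by simp [hk]), term_eq hd hP, term_eq hd hQ, term_eq hd hw1, hgp, hgq] at hLg
  rw [hLbc] at eb hLb
  set P := fb p * d p with hP'
  set x := fb p * v p with hx
  set Q := fc q * d q with hQ'
  set y := fc q * v q with hy
  have hW : g w * d w = -P - Q := by linarith
  have hw : g w * v w = -x - y := by linarith
  rw [hW, hw] at hLg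
  rw [hW] at hW0
  have a1 : (P : ℚ) ≠ 0 := by exact_mod_cast hP0
  have a2 : (Q : ℚ) ≠ 0 := by exact_mod_cast hQ0
  have a3 : ((-P - Q : ℤ) : ℚ) ≠ 0 := by exact_mod_cast hW0
  have a4 : (1 + P : ℚ) ≠ 0 := by exact_mod_cast hP1
  have a5 : (1 + Q : ℚ) ≠ 0 := by exact_mod_cast hQ1
  push_cast at hLg a3
  field_simp at hLg
  have hk : ((x : ℚ) * Q - y * P) ^ 2 = 0 := by linear_combination -hLg
  rw [pow_eq_zero_iff two_ne_zero] at hk
  have hne : ((P : ℚ) - x) ≠ 0 := by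
    intro e
    rw [e] at eb
    simp only [ne_eq, OfNat.ofNat_ne_zero, not_false_eq_true, zero_pow, mul_eq_zero, a1, a4,
      or_self, or_false] at eb
    exact hLb eb
  have hPQ : (P : ℚ) = Q := by
    have h1 : ((Q : ℚ) - y) * P = (P - x) * Q := by linear_combination hk
    have h2 : (((P : ℚ) - x) ^ 2 * (Q * (1 + Q)) - (Q - y) ^ 2 * (P * (1 + P))) = 0 := by
      linear_combination (P * (1 + P) : ℚ) * ec - (Q * (1 + Q) : ℚ) * eb
    have h3 : ((P : ℚ) - x) ^ 2 * Q * P * (P - Q) = 0 := by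
      linear_combination (P : ℚ) ^ 2 * h2 +
        ((P : ℚ) * (1 + P)) * (((Q : ℚ) - y) * P + (P - x) * Q) * h1
    simpa [mul_eq_zero, hne, a1, a2, sub_eq_zero] using h3
  have hxy : (x : ℚ) = y := by
    rw [← hPQ, ← sub_mul, mul_eq_zero, sub_eq_zero] at hk
    exact hk.resolve_right a1
  have hPQ' : P = Q := by exact_mod_cast hPQ
  have hxy' : x = y := by exact_mod_cast hxy
  exact ⟨hPQ'.symm, hxy'.symm, by linarith, by linarith⟩

theorem pair_one {a b c e : ℤ} (ha : a = 1 ∨ a = -1) (hb : b = 1 ∨ b = -1)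
    (h : c * a + e * b = 1) (h2 : c * c + e * e ≤ 2) :
    (c = a ∧ e = 0) ∨ (c = 0 ∧ e = b) := by
  have hc1 : c ≤ 1 := by nlinarith
  have hc2 : -1 ≤ c := by nlinarith
  have he1 : e ≤ 1 := by nlinarith
  have he2 : -1 ≤ e := by nlinarith
  interval_cases c <;> interval_cases e <;> rcases ha with rfl | rfl <;>
    rcases hb with rfl | rfl <;> omega

theorem pick_pair {R f : I → ℤ} (hR : R t = 1) {i j : I} (h : Split t f i j)
    (hdot : ∑ k, R k * f k = 2) (h2 : R i * R i + R j * R j ≤ 2) :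
    ∃ z z', Split t f z z' ∧ R z = f z ∧ R z' = 0 ∧ R i * R i + R j * R j = 1 := by
  have e := h.dot R
  rw [hdot, hR] at e
  rcases pair_one h.hi h.hj (c := R i) (e := R j) (by linarith) h2 with ⟨a, b⟩ | ⟨a, b⟩
  · refine ⟨i, j, h, a, b, ?_⟩
    rcases h.hi with u | u <;> rw [a, b, u] <;> norm_num
  · refine ⟨j, i, h.symm, b, a, ?_⟩
    rcases h.hj with u | u <;> rw [a, b, u] <;> norm_num

theorem case_all (hd : ∀ k, 0 < d k) (hdt : d t = 1) (hvt : v t = 1) {fa fb fc ga gb R : I → ℤ}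
    (ha : IsF t d v fa) (hb : IsF t d v fb) (hc : IsF t d v fc)
    (hga : IsG t d v ga) (hgb : IsG t d v gb)
    (hRt : R t = 1) (hRn : ∑ k, R k * R k = 5) (hRd : ∑ k, R k * d k = 0)
    (hRv : ∑ k, R k * v k = 0)
    (ab : ∑ k, fa k * fb k = 1) (ac : ∑ k, fa k * fc k = 1) (bc : ∑ k, fb k * fc k = 1)
    (gaa : ∑ k, ga k * fa k = 0) (gab : ∑ k, ga k * fb k = 1) (gac : ∑ k, ga k * fc k = 1)
    (gbb : ∑ k, gb k * fb k = 0) (gba : ∑ k, gb k * fa k = 1) (gbc : ∑ k, gb k * fc k = 1)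
    (gg : ∑ k, ga k * gb k = 1)
    (Ra : ∑ k, R k * fa k = 2) (Rb : ∑ k, R k * fb k = 2) (Rc : ∑ k, R k * fc k = 2)
    (Rga : ∑ k, R k * ga k = 2) (Rgb : ∑ k, R k * gb k = 2)
    (Lab : Lsum d v fa = Lsum d v fb) (Lbc : Lsum d v fb = Lsum d v fc)
    (Lga : Lsum d v ga = 0) (Lgb : Lsum d v gb = 0)
    (LR : 2 * Lsum d v R = 3 * Lsum d v fa) (Lne : Lsum d v fa ≠ 0) :
    ∃ i j, i ≠ j ∧ d i = 1 ∧ d j = 1 ∧ v i ≠ 1 ∧ v j ≠ 1 := by
  have dab := disjoint_of_dot hd ha.ht hb.ht ha.norm hb.norm ha.deg hb.deg ab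
  have dac := disjoint_of_dot hd ha.ht hc.ht ha.norm hc.norm ha.deg hc.deg ac
  have dbc := disjoint_of_dot hd hb.ht hc.ht hb.norm hc.norm hb.deg hc.deg bc
  obtain ⟨p, p', q, q', w, hp, hq, hgap, hgaq, hpq, hpw, hqw, hwt, hgaw, hwa, hwb, hwc, hza, hzaa⟩ :=
    g_shape ha hb hc hga dab dac dbc gaa gab gac
  obtain ⟨r, r', s, s', w', hr, hs, hgbr, hgbs, hrs, hrw, hsw, hwt', hgbw, hwb', hwa', hwc', hzb,
      hzbb⟩ :=
    g_shape hb ha hc hgb (fun k hk => (dab k hk).symm) dbc dac gbb gba gbc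
  obtain ⟨hQ, hy, hW, hw⟩ := g_data hd hdt hvt hb hc hga hp hq hgap hgaq hpq hpw hqw hgaw hza Lga
    Lbc (Lab ▸ Lne)
  obtain ⟨hQ', hy', hW', hw'⟩ := g_data hd hdt hvt ha hc hgb hr hs hgbr hgbs hrs hrw hsw hgbw hzb
    Lgb (Lab.trans Lbc) Lne
  obtain ⟨hY, hyY, hX0, hX1, eL⟩ := hp.data hd hdt hvt hb.deg hb.val
  obtain ⟨hYc, -, -, -, -⟩ := hq.data hd hdt hvt hc.deg hc.val
  have hgap0 : gb p = 0 := hzbb p hp.hit hp.mne
  have hgar0 : ga r = 0 := hzaa r hr.hit hr.mne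
  have hgg : ga q * gb q + ga w * gb w = 1 := by
    rw [sum_three hpq hpw hqw hza (fun k => ga k * gb k) (fun k hk => by rw [hk, zero_mul]),
      hgap0] at gg
    linarith
  -- the constituent in `fc` is the same for `ga` and `gb`
  have hqs : s = q := by
    rcases hq.eq_or hs.hit hs.mne with e | e
    · exact e
    · exfalso
      subst e
      have hgbq : gb q = 0 := hzb q (fun e => hq.mne (e ▸ (dac r hr.hit).resolve_left hr.mne))
        hq.hij (fun e => hq.mne (e ▸ hwc'))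
      rw [hgbq, mul_zero, zero_add] at hgg
      have hww : w = w' := by
        by_contra hne
        refine one_ne_zero (hgg.symm.trans ?_)
        rw [hzb w (fun e => hgaw.elim (fun u => by rw [e, hgar0] at u; omega)
          (fun u => by rw [e, hgar0] at u; omega)) (fun e => hs.mne (e ▸ hwc)) hne, mul_zero]
      subst hww
      have hsame : ga w = gb w := by
        rcases hgaw with u | u <;> rcases hgbw with u' | u' <;> rw [u, u'] at hgg ⊢ <;> omega
      rw [← hsame] at hW'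
      omega
  subst hqs
  have hww : w ≠ w' := by
    intro e
    rw [← e] at hgbw
    rw [hgaq, hgbs] at hgg
    rcases hgaw with u | u <;> rcases hgbw with u' | u' <;> rcases hs.hi with u'' | u'' <;>
      rw [u, u', u''] at hgg <;> omega
  -- degrees
  have hXr : fa r * d r = fb p * d p := by linarith
  have hxr : fa r * v r = fb p * v p := by linarith
  -- the constituents of `R`
  have hnotp : p ≠ p' ∧ p ≠ r ∧ p ≠ r' ∧ p' ≠ r ∧ p' ≠ r' :=
    ⟨hp.hij, fun e => hp.mne (e ▸ (dab r hr.hit).resolve_left hr.mne),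
      fun e => hp.mne (e ▸ (dab r' hr.hjt).resolve_left hr.symm.mne),
      fun e => hp.symm.mne (e ▸ (dab r hr.hit).resolve_left hr.mne),
      fun e => hp.symm.mne (e ▸ (dab r' hr.hjt).resolve_left hr.symm.mne)⟩
  have hnotq : s ≠ s' ∧ s ≠ r ∧ s ≠ r' ∧ s' ≠ r ∧ s' ≠ r' ∧ s ≠ p ∧ s ≠ p' ∧ s' ≠ p ∧ s' ≠ p' :=
    ⟨hs.hij, fun e => hs.mne (e ▸ (dac r hr.hit).resolve_left hr.mne),
      fun e => hs.mne (e ▸ (dac r' hr.hjt).resolve_left hr.symm.mne),
      fun e => hs.symm.mne (e ▸ (dac r hr.hit).resolve_left hr.mne),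
      fun e => hs.symm.mne (e ▸ (dac r' hr.hjt).resolve_left hr.symm.mne),
      fun e => hs.mne (e ▸ (dbc p hp.hit).resolve_left hp.mne),
      fun e => hs.mne (e ▸ (dbc p' hp.hjt).resolve_left hp.symm.mne),
      fun e => hs.symm.mne (e ▸ (dbc p hp.hit).resolve_left hp.mne),
      fun e => hs.symm.mne (e ▸ (dbc p' hp.hjt).resolve_left hp.symm.mne)⟩
  have hodd : ∀ (f : I → ℤ) (i j : I), Split t f i j → ∑ k, R k * f k = 2 →
      1 ≤ R i * R i + R j * R j := by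
    intro f i j h hdot
    have e := h.dot R
    rw [hdot, hRt] at e
    by_contra hc
    have h1 := mul_self_nonneg (R i)
    have h2 := mul_self_nonneg (R j)
    rw [mul_self_eq_zero.mp (by omega : R i * R i = 0),
      mul_self_eq_zero.mp (by omega : R j * R j = 0)] at e
    simp at e
  have h7 : ∑ k ∈ ({t, r, r', p, p', s, s'} : Finset I), R k * R k =
      1 + (R r * R r + R r' * R r') + (R p * R p + R p' * R p') + (R s * R s + R s' * R s') := by
    rw [Finset.sum_insert (by simp [hr.hit.symm, hr.hjt.symm, hp.hit.symm, hp.hjt.symm,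
        hs.hit.symm, hs.hjt.symm]),
      Finset.sum_insert (by simp [hr.hij, hnotp.2.1.symm, hnotp.2.2.2.1.symm, hnotq.2.1.symm,
        hnotq.2.2.2.1.symm]),
      Finset.sum_insert (by simp [hnotp.2.2.1.symm, hnotp.2.2.2.2.symm, hnotq.2.2.1.symm,
        hnotq.2.2.2.2.1.symm]),
      Finset.sum_insert (by simp [hp.hij, hnotq.2.2.2.2.2.1.symm, hnotq.2.2.2.2.2.2.2.1.symm]),
      Finset.sum_insert (by simp [hnotq.2.2.2.2.2.2.1.symm, hnotq.2.2.2.2.2.2.2.2.symm]),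
      Finset.sum_pair hs.hij, hRt]
    ring
  have hle : ∑ k ∈ ({t, r, r', p, p', s, s'} : Finset I), R k * R k ≤ 5 :=
    hRn ▸ Finset.sum_le_sum_of_subset_of_nonneg (Finset.subset_univ _)
      fun k _ _ => mul_self_nonneg (R k)
  have la := hodd fa r r' hr Ra
  have lb := hodd fb p p' hp Rb
  have lc := hodd fc s s' hs Rc
  obtain ⟨za, za', hza', hRza, hRza', na⟩ := pick_pair hRt hr Ra (by omega)
  obtain ⟨zb, zb', hzb', hRzb, hRzb', nb⟩ := pick_pair hRt hp Rb (by omega)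
  obtain ⟨zc, zc', hzc', hRzc, hRzc', nc⟩ := pick_pair hRt hs Rc (by omega)
  obtain ⟨φ, hφ, hφ1, hφz⟩ := rest_one (m := R) (T := {t, r, r', p, p', s, s'}) (c := 4)
    (by omega) (by omega)
  simp only [Finset.mem_insert, Finset.mem_singleton, not_or] at hφ hφz
  -- the sums over the support of `R`
  have hzero : ∀ k, k ≠ t → k ≠ za → k ≠ zb → k ≠ zc → k ≠ φ → R k = 0 := by
    intro k k0 k1 k2 k3 k4
    by_cases a : fa k = 0
    · by_cases b : fb k = 0
      · by_cases c : fc k = 0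
        · exact hφz k ⟨k0, fun e => hr.mne (e ▸ a), fun e => hr.symm.mne (e ▸ a),
            fun e => hp.mne (e ▸ b), fun e => hp.symm.mne (e ▸ b),
            fun e => hs.mne (e ▸ c), fun e => hs.symm.mne (e ▸ c)⟩ k4
        · rw [(hzc'.eq_or k0 c).resolve_left k3, hRzc']
      · rw [(hzb'.eq_or k0 b).resolve_left k2, hRzb']
    · rw [(hza'.eq_or k0 a).resolve_left k1, hRza']
  have five : ∀ {S : Type} [AddCommMonoid S] (F : I → S), (∀ k, R k = 0 → F k = 0) →
      ∑ k, F k = F t + F za + F zb + F zc + F φ := by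
    intro S _ F hF
    have m1 : za ≠ zb := fun e =>
      hza'.mne (e ▸ (dab zb hzb'.hit).resolve_right hzb'.mne)
    have m2 : za ≠ zc := fun e =>
      hza'.mne (e ▸ (dac zc hzc'.hit).resolve_right hzc'.mne)
    have m3 : zb ≠ zc := fun e =>
      hzb'.mne (e ▸ (dbc zc hzc'.hit).resolve_right hzc'.mne)
    have m4 : za ≠ φ := fun e =>
      hza'.mne (e ▸ hr.hz φ hφ.1 hφ.2.1 hφ.2.2.1)
    have m5 : zb ≠ φ := fun e =>
      hzb'.mne (e ▸ hp.hz φ hφ.1 hφ.2.2.2.1 hφ.2.2.2.2.1)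
    have m6 : zc ≠ φ := fun e =>
      hzc'.mne (e ▸ hs.hz φ hφ.1 hφ.2.2.2.2.2.1 hφ.2.2.2.2.2.2)
    rw [← Finset.sum_subset (Finset.subset_univ ({t, za, zb, zc, φ} : Finset I)) fun k _ hk => by
      simp only [Finset.mem_insert, Finset.mem_singleton, not_or] at hk
      exact hF k (hzero k hk.1 hk.2.1 hk.2.2.1 hk.2.2.2.1 hk.2.2.2.2)]
    rw [Finset.sum_insert (by simp [hza'.hit.symm, hzb'.hit.symm, hzc'.hit.symm, Ne.symm hφ.1]),
      Finset.sum_insert (by simp [m1, m2, m4]), Finset.sum_insert (by simp [m3, m5]),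
      Finset.sum_pair m6]
    simp only [add_assoc]
  -- matching with `ga` and `gb`
  rw [sum_three hpq hpw hqw hza (fun k => R k * ga k) (fun k hk => by rw [hk, mul_zero]),
    hgap, hgaq] at Rga
  rw [sum_three hrs hrw hsw hzb (fun k => R k * gb k) (fun k hk => by rw [hk, mul_zero]),
    hgbr, hgbs] at Rgb
  have hRw : R w = 0 ∨ w = φ := by
    by_cases e : w = φ
    · exact Or.inr e
    · refine Or.inl (hzero w hwt ?_ ?_ ?_ e)
      · exact fun e => hza'.mne (e ▸ hwa)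
      · exact fun e => hzb'.mne (e ▸ hwb)
      · exact fun e => hzc'.mne (e ▸ hwc)
  have hRw' : R w' = 0 ∨ w' = φ := by
    by_cases e : w' = φ
    · exact Or.inr e
    · refine Or.inl (hzero w' hwt' ?_ ?_ ?_ e)
      · exact fun e => hza'.mne (e ▸ hwa')
      · exact fun e => hzb'.mne (e ▸ hwb')
      · exact fun e => hzc'.mne (e ▸ hwc')
  have heq : ∀ (f : I → ℤ) (i j z z' : I), Split t f i j → Split t f z z' → R z = f z → R z' = 0 →
      (z = i ∧ R i * f i = 1) ∨ (z = j ∧ R i * f i = 0) := by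
    intro f i j z z' h hz' e e'
    rcases h.eq_or hz'.hit hz'.mne with u | u
    · refine Or.inl ⟨u, ?_⟩
      rw [← u, e]
      rcases hz'.hi with a | a <;> rw [a] <;> norm_num
    · refine Or.inr ⟨u, ?_⟩
      rw [(hz'.eq_or h.hit h.mne).resolve_left (fun a => h.hij (a.trans u)), e', zero_mul]
  have small : ∀ (g : I → ℤ) (k : I), (g k = 1 ∨ g k = -1) → (R k = 0 ∨ k = φ) →
      R k * g k ≤ 1 := by
    rintro g k hk (e | rfl)
    · simp [e]
    · rcases hk with a | a <;> rcases hφ1 with b | b <;> rw [a, b] <;> norm_num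
  have sw := small ga w hgaw hRw
  have sw' := small gb w' hgbw hRw'
  have hd5 := five (fun k => R k * d k) fun k hk => by rw [hk, zero_mul]
  have hv5 := five (fun k => R k * v k) fun k hk => by rw [hk, zero_mul]
  rw [hRd, hRt, hdt, hRza, hRzb, hRzc] at hd5
  rw [hRv, hRt, hvt, hRza, hRzb, hRzc] at hv5
  obtain ⟨hYa, -, -, -, -⟩ := hr.data hd hdt hvt ha.deg ha.val
  rcases heq fc s s' zc zc' hs hzc' hRzc hRzc' with ⟨uc, ec⟩ | ⟨-, ec⟩
  case inr =>
    exfalso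
    have h1 : R w ≠ 0 := fun e => by
      rcases heq fb p p' zb zb' hp hzb' hRzb hRzb' with ⟨-, u⟩ | ⟨-, u⟩ <;>
        rw [e, u, ec, zero_mul] at Rga <;> omega
    have h2 : R w' ≠ 0 := fun e => by
      rcases heq fa r r' za za' hr hza' hRza hRza' with ⟨-, u⟩ | ⟨-, u⟩ <;>
        rw [e, u, ec, zero_mul] at Rgb <;> omega
    exact hww ((hRw.resolve_left h1).trans (hRw'.resolve_left h2).symm)
  rcases heq fb p p' zb zb' hp hzb' hRzb hRzb' with ⟨ub, eb⟩ | ⟨ub, eb⟩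
  case inr =>
    exfalso
    have h1 : R w * ga w = 1 := by linarith
    have hφw : w = φ := hRw.resolve_left fun e => by simp [e] at h1
    have hR' : R w' = 0 := hRw'.resolve_right fun e => hww (hφw.trans e.symm)
    rcases heq fa r r' za za' hr hza' hRza hRza' with ⟨ua, ea⟩ | ⟨ua, ea⟩
    · rw [← hφw, ua, ub, uc] at hd5
      have : R w = ga w := by
        rcases hgaw with a | a <;> rw [a] at h1 ⊢ <;> linarith
      rw [this] at hd5
      omega
    · rw [hR', ea, ec] at Rgb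
      simp at Rgb
  rcases heq fa r r' za za' hr hza' hRza hRza' with ⟨ua, ea⟩ | ⟨ua, ea⟩
  case inr =>
    exfalso
    have h1 : R w' * gb w' = 1 := by linarith
    have hφw : w' = φ := hRw'.resolve_left fun e => by simp [e] at h1
    rw [← hφw, ua, ub, uc] at hd5
    have : R w' = gb w' := by
      rcases hgbw with a | a <;> rw [a] at h1 ⊢ <;> linarith
    rw [this] at hd5
    omega
  rw [ua, ub, uc] at hd5 hv5
  have hΦ : R φ * d φ = -1 - 3 * (fb p * d p) := by linarith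
  have hψ : R φ * v φ = -1 - 3 * (fb p * v p) := by linarith
  have hΦ0 := deg_ne hd hφ1 (k := φ)
  rw [hΦ] at hΦ0
  have tza : R za = 1 ∨ R za = -1 := by rw [hRza]; exact hza'.hi
  have tzb : R zb = 1 ∨ R zb = -1 := by rw [hRzb]; exact hzb'.hi
  have tzc : R zc = 1 ∨ R zc = -1 := by rw [hRzc]; exact hzc'.hi
  have hLR : Lsum d v R = 1 + 3 * (((fb p * v p : ℤ) : ℚ) ^ 2 / ((fb p * d p : ℤ) : ℚ)) +
      ((-1 - 3 * (fb p * v p) : ℤ) : ℚ) ^ 2 / ((-1 - 3 * (fb p * d p) : ℤ) : ℚ) := by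
    rw [Lsum, five (fun k => (R k : ℚ) * (v k : ℚ) ^ 2 / (d k : ℚ)) (fun k hk => by simp [hk]),
      term_eq hd tza, term_eq hd tzb, term_eq hd tzc,
      term_eq hd hφ1, hRza, hRzb, hRzc, ua, ub, uc, hΦ, hψ, hRt, hdt, hvt, hXr, hxr, hQ, hy]
    push_cast
    ring
  have a1 : ((fb p * d p : ℤ) : ℚ) ≠ 0 := by exact_mod_cast hX0
  have a2 : ((-1 - 3 * (fb p * d p) : ℤ) : ℚ) ≠ 0 := by exact_mod_cast hΦ0
  have a3 : (1 + ((fb p * d p : ℤ) : ℚ)) ≠ 0 := by exact_mod_cast hX1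
  rw [← Lab] at eL
  have hsq : ((fb p * d p : ℤ) : ℚ) - ((fb p * v p : ℤ) : ℚ) ≠ 0 := by
    intro e
    rw [e] at eL
    simp only [ne_eq, OfNat.ofNat_ne_zero, not_false_eq_true, zero_pow, mul_eq_zero] at eL
    exact eL.elim Lne fun h => h.elim a1 a3
  generalize hX : fb p * d p = X at hQ hXr hLR a1 a2 a3 eL hsq
  generalize hx : fb p * v p = x at hy hxr hLR eL hsq
  push_cast at a2 hLR
  have hkey : ((X : ℚ) - x) ^ 2 * (3 * (X - 1)) = 0 := by
    rw [hLR] at LR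
    field_simp at LR
    linear_combination ((X : ℚ) + 1) * LR + 3 * (-1 - 3 * (X : ℚ)) * eL
  have hX1' : X = 1 := by
    have : (X : ℚ) = 1 := by simpa [mul_eq_zero, hsq, sub_eq_zero] using hkey
    exact_mod_cast this
  subst hX1'
  have hx1 : x ≠ 1 := fun e => hsq (by rw [e]; simp)
  have fin : ∀ (f : I → ℤ) (k : I), (f k = 1 ∨ f k = -1) → f k * d k = 1 → f k * v k = x →
      d k = 1 ∧ v k ≠ 1 := by
    intro f k hf hD hV
    have := hd k
    rcases hf with a | a <;> rw [a] at hD hV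
    · exact ⟨by omega, by omega⟩
    · omega
  exact ⟨p, r, hnotp.2.1, (fin fb p hp.hi hX hx).1, (fin fa r hr.hi hXr hxr).1,
    (fin fb p hp.hi hX hx).2, (fin fa r hr.hi hXr hxr).2⟩

theorem case_pair (hd : ∀ k, 0 < d k) (hdt : d t = 1) (hvt : v t = 1) {fb fc g : I → ℤ} {s : I}
    (hb : IsF t d v fb) (hc : IsF t d v fc) (hg : IsG t d v g)
    (bc : ∑ k, fb k * fc k = 1) (gb : ∑ k, g k * fb k = 1)
    (hst : s ≠ t) (hcs : fc s = 1) (hgs : g s = 1) (hds : d s = 1) (hvs : v s = -1)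
    (Lcb : Lsum d v fc = 4 * Lsum d v fb) (Lg : Lsum d v g = Lsum d v fb) :
    ∃ i, d i = 1 ∧ v i = 0 := by
  obtain ⟨q, q', hq⟩ := exists_split hc.ht hc.norm
  obtain ⟨z, hzS⟩ : ∃ z, Split t fc s z := by
    rcases hq.eq_or hst (by omega) with e | e
    · exact ⟨q', e ▸ hq⟩
    · exact ⟨q, e ▸ hq.symm⟩
  obtain ⟨-, -, -, -, ec⟩ := hzS.data hd hdt hvt hc.deg hc.val
  rw [hcs, hds, hvs] at ec
  norm_num at ec
  have hLb : Lsum d v fb = 1 / 2 := by linarith
  obtain ⟨p, p', hp, hgp, -⟩ := pick hb.ht hb.norm hg.ht hg.norm gb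
  have hbs : fb s = 0 :=
    ((disjoint_of_dot hd hb.ht hc.ht hb.norm hc.norm hb.deg hc.deg bc) s hst).resolve_right
      (by omega)
  have hps : p ≠ s := fun e => hp.mne (e ▸ hbs)
  obtain ⟨w, hw, hw1, hz⟩ := rest_one (m := g) (T := {p, s}) (c := 2) (by
    rw [Finset.sum_pair hps, hgp, hgs]
    rcases hp.hi with a | a <;> rw [a] <;> norm_num) (by rw [hg.norm]; norm_num)
  simp only [Finset.mem_insert, Finset.mem_singleton, not_or] at hw hz
  have hz' : ∀ k, k ≠ p → k ≠ s → k ≠ w → g k = 0 := fun k a b c => hz k ⟨a, b⟩ c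
  have e1 := sum_three hps (Ne.symm hw.1) (Ne.symm hw.2) hz' (fun k => g k * d k)
    fun k hk => by rw [hk, zero_mul]
  have e2 := sum_three hps (Ne.symm hw.1) (Ne.symm hw.2) hz' (fun k => g k * v k)
    fun k hk => by rw [hk, zero_mul]
  rw [hg.deg, hgp, hgs, hds] at e1
  rw [hg.val, hgp, hgs, hvs] at e2
  obtain ⟨-, -, hQ0, hQ1, eb⟩ := hp.data hd hdt hvt hb.deg hb.val
  rw [Lsum, sum_three hps (Ne.symm hw.1) (Ne.symm hw.2) hz'
    (fun k => (g k : ℚ) * (v k : ℚ) ^ 2 / (d k : ℚ)) (fun k hk => by simp [hk]),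
    term_eq hd (hgp ▸ hp.hi), term_eq hd hw1, hgp, hgs, hds, hvs] at Lg
  have hW : g w * d w = -1 - fb p * d p := by linarith
  have hw' : g w * v w = 1 - fb p * v p := by linarith
  rw [hW, hw', hLb] at Lg
  rw [hLb] at eb
  generalize hQd : fb p * d p = Q at Lg eb hQ0 hQ1
  generalize hqd : fb p * v p = q at Lg eb
  have a1 : (Q : ℚ) ≠ 0 := by exact_mod_cast hQ0
  have a2 : (1 + Q : ℚ) ≠ 0 := by exact_mod_cast hQ1
  have a3 : (-1 - Q : ℚ) ≠ 0 := fun e => a2 (by linarith)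
  push_cast at Lg eb
  field_simp at Lg
  field_simp at eb
  have hq0 : (q : ℚ) * Q = 0 := by
    first
      | linear_combination (1 / 8 : ℚ) * Lg + (1 / 8 : ℚ) * eb
      | linear_combination (1 / 8 : ℚ) * Lg - (1 / 8 : ℚ) * eb
      | linear_combination (-1 / 8 : ℚ) * Lg + (1 / 8 : ℚ) * eb
      | linear_combination (-1 / 8 : ℚ) * Lg - (1 / 8 : ℚ) * eb
  have hq' : (q : ℚ) = 0 := (mul_eq_zero.mp hq0).resolve_right a1
  have hq'' : q = 0 := by exact_mod_cast hq'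
  rw [hq'] at eb
  have hQ : (Q : ℚ) * (Q - 1) = 0 := by
    first
      | linear_combination eb
      | linear_combination -eb
  have hQ' : Q = 1 := by
    have : (Q : ℚ) = 1 := sub_eq_zero.mp ((mul_eq_zero.mp hQ).resolve_left a1)
    exact_mod_cast this
  have := hd p
  subst hq'' hQ'
  rcases hp.hi with a | a <;> rw [a] at hQd hqd
  · exact ⟨p, by omega, by omega⟩
  · omega

end Cfsg.Agent.ThreeCubed.Arith
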