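import Cfsg.Agent.Lib.Recog.ThreeCubed.Model
import Cfsg.Agent.Lib.CT.Induced

/-!
The tables on the model are generalized characters.
-/

set_option autoImplicit false

namespace Cfsg.Agent.ThreeCubed

open DihedralGroup

/-- `3` on the nontrivial rotations. -/
def u3 (s : DihedralGroup 3) : ℤ := if cl s = 1 then 3 else 0

/-- The sign of an element. -/
def eps (s : DihedralGroup 3) : ℤ := if cl s = 2 then -1 else 1

theorem eps_mul : ∀ s t, eps (s * t) = eps s * eps t := by decide +kernel

theorem eps_one : eps 1 = 1 := by decide +kernel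

/-- The sign character. -/
noncomputable def epsHom : DihedralGroup 3 →* ℂˣ where
  toFun s := if eps s = 1 then 1 else -1
  map_one' := by simp [eps_one]
  map_mul' s t := by
    have h : ∀ s : DihedralGroup 3, eps s = 1 ∨ eps s = -1 := by decide +kernel
    rcases h s with a | a <;> rcases h t with b | b <;> simp [eps_mul, a, b]

theorem epsHom_apply (s : DihedralGroup 3) : ((epsHom s : ℂˣ) : ℂ) = (eps s : ℂ) := by
  have h : ∀ s : DihedralGroup 3, eps s = 1 ∨ eps s = -1 := by decide +kernel
  rcases h s with a | a <;> simp [epsHom, a]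

theorem isGen_eps : IsGeneralizedCharacter (DihedralGroup 3) (fun s => (eps s : ℂ)) := by
  simpa [epsHom_apply] using CT.isGen_of_isIrr (CT.isIrrCharacter_lin epsHom)

theorem u3_eq : ∀ s : DihedralGroup 3,
    u3 s = 1 + 1 + eps s - ((Finset.univ.filter fun x => act3 s x = x).card : ℤ) := by
  decide +kernel

theorem isGen_u3 : IsGeneralizedCharacter (DihedralGroup 3) (fun s => (u3 s : ℂ)) := by
  letI : MulAction (DihedralGroup 3) (Fin 3) :=
    { smul := act3, one_smul := act3_one, mul_smul := fun s t x => act3_mul s t x }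
  have hπ := CT.isGen_of_isCharacter (CT.isCharacter_perm (G := DihedralGroup 3) (Fin 3))
  have h1 := CT.isGen_of_isCharacter (CT.isCharacter_one (G := DihedralGroup 3))
  convert CT.isGen_sub (CT.isGen_add (CT.isGen_add h1 h1) isGen_eps) hπ using 1
  funext s
  have e : Nat.card (MulAction.fixedBy (Fin 3) s) =
      (Finset.univ.filter fun x => act3 s x = x).card := by
    rw [Nat.card_eq_fintype_card]
    exact Fintype.card_of_finset' _ fun x => by simp [MulAction.mem_fixedBy]; rfl
  simp only [Pi.sub_apply, Pi.add_apply, e, u3_eq s]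
  push_cast
  ring

theorem table_identities : ∀ w : W, even w = true →
    fA w = u3 w.2.2 ∧ fB w = u3 w.2.1 ∧ fC w = u3 w.1 ∧
    gA w = eps w.1 * u3 w.2.2 ∧ gB w = eps w.1 * u3 w.2.1 ∧
    fR w = u3 w.1 * (1 + eps w.2.1) + u3 w.2.1 * (1 + eps w.1) - u3 w.1 * u3 w.2.1 := by
  decide +kernel

variable {H : Type*} [Group H]

theorem isGen_int_mul {a b : H → ℤ} (ha : IsGeneralizedCharacter H (fun h => (a h : ℂ)))
    (hb : IsGeneralizedCharacter H (fun h => (b h : ℂ))) :
    IsGeneralizedCharacter H (fun h => ((a h * b h : ℤ) : ℂ)) := by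
  convert CT.isGen_mul ha hb using 1
  funext h
  simp

theorem isGen_int_add {a b : H → ℤ} (ha : IsGeneralizedCharacter H (fun h => (a h : ℂ)))
    (hb : IsGeneralizedCharacter H (fun h => (b h : ℂ))) :
    IsGeneralizedCharacter H (fun h => ((a h + b h : ℤ) : ℂ)) := by
  convert CT.isGen_add ha hb using 1
  funext h
  simp

theorem isGen_int_sub {a b : H → ℤ} (ha : IsGeneralizedCharacter H (fun h => (a h : ℂ)))
    (hb : IsGeneralizedCharacter H (fun h => (b h : ℂ))) :
    IsGeneralizedCharacter H (fun h => ((a h - b h : ℤ) : ℂ)) := by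
  convert CT.isGen_sub ha hb using 1
  funext h
  simp

theorem isGen_tables (ι : H →* W) (hι : ∀ h, even (ι h) = true) :
    ∀ F ∈ tables, IsGeneralizedCharacter H (fun h => (F (ι h) : ℂ)) := by
  have hu : ∀ π : W →* DihedralGroup 3, IsGeneralizedCharacter H (fun h => (u3 (π (ι h)) : ℂ)) :=
    fun π => CT.isGen_comp (π.comp ι) isGen_u3
  have he : ∀ π : W →* DihedralGroup 3, IsGeneralizedCharacter H (fun h => (eps (π (ι h)) : ℂ)) :=
    fun π => CT.isGen_comp (π.comp ι) isGen_eps
  let px : W →* DihedralGroup 3 := MonoidHom.fst _ _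
  let py : W →* DihedralGroup 3 := (MonoidHom.fst _ _).comp (MonoidHom.snd _ _)
  let pz : W →* DihedralGroup 3 := (MonoidHom.snd _ _).comp (MonoidHom.snd _ _)
  have h1 : IsGeneralizedCharacter H (fun _ => ((1 : ℤ) : ℂ)) := by
    simpa using CT.isGen_of_isCharacter (CT.isCharacter_one (G := H))
  intro F hF
  simp only [tables, List.mem_cons, List.not_mem_nil, or_false] at hF
  rcases hF with rfl | rfl | rfl | rfl | rfl | rfl
  · simpa [(table_identities _ (hι _)).1, pz] using hu pz
  · simpa [(table_identities _ (hι _)).2.1, py] using hu py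
  · simpa [(table_identities _ (hι _)).2.2.1, px] using hu px
  · simpa [(table_identities _ (hι _)).2.2.2.1, px, pz] using isGen_int_mul (he px) (hu pz)
  · simpa [(table_identities _ (hι _)).2.2.2.2.1, px, py] using isGen_int_mul (he px) (hu py)
  · simpa [(table_identities _ (hι _)).2.2.2.2.2, px, py] using
      isGen_int_sub (isGen_int_add (isGen_int_mul (hu px) (isGen_int_add h1 (he py)))
        (isGen_int_mul (hu py) (isGen_int_add h1 (he px)))) (isGen_int_mul (hu px) (hu py))

theorem tables_conj : ∀ F ∈ tables, ∀ v w : W, F (v * w * v⁻¹) = F w := by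
  intro F hF v w
  simp only [tables, List.mem_cons, List.not_mem_nil, or_false] at hF
  rcases hF with rfl | rfl | rfl | rfl | rfl | rfl
  · exact class_inv (fun _ _ c => if c = 1 then (3 : ℤ) else 0) v w
  · exact class_inv (fun _ b _ => if b = 1 then (3 : ℤ) else 0) v w
  · exact class_inv (fun a _ _ => if a = 1 then (3 : ℤ) else 0) v w
  · exact class_inv (fun a _ c => if c = 1 then (if a = 2 then -3 else (3 : ℤ)) else 0) v w
  · exact class_inv (fun a b _ => if b = 1 then (if a = 2 then -3 else (3 : ℤ)) else 0) v w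
  · exact class_inv (fun a b c => if (decide (a ≠ 2) && decide (b ≠ 2) && decide (c ≠ 2)) = true
      then (if a = 1 then (if b = 1 then (3 : ℤ) else 6) else (if b = 1 then 6 else 0)) else 0) v w

theorem tables_support : ∀ F ∈ tables, ∀ w : W, even w = true → w * w = 1 → F w = 0 := by
  intro F hF w hw hs
  obtain ⟨a, b, c, d, e, f⟩ := support_of_sq_eq_one w hw hs
  simp only [tables, List.mem_cons, List.not_mem_nil, or_false] at hF
  rcases hF with rfl | rfl | rfl | rfl | rfl | rfl <;> assumption

end Cfsg.Agent.ThreeCubed
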