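import Cfsg.Agent.Lib.Recog.ThreeCubed.Generalized

/-!
Further finite facts about the model.
-/

set_option autoImplicit false

namespace Cfsg.Agent.ThreeCubed

open DihedralGroup

/-- An element of the translation subgroup. -/
def trans (i j k : ZMod 3) : W := (r i, r j, r k)

theorem rot_trans : ∀ i j k : ZMod 3, rot (trans i j k) = true := by decide +kernel

theorem typ_even : ∀ w : W, (typA w || typB w || typC w) = true → even w = true := by
  decide +kernel

theorem decomposition : ∀ w : W, even w = true → ∃ i j k : ZMod 3, ∃ p q : Fin 2,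
    repA * (sr i, sr 0, 1) * (repA * (sr 0, sr j, 1)) * (repB * (sr 0, 1, sr k)) *
      repA ^ (p : ℕ) * repB ^ (q : ℕ) = w := by decide +kernel

theorem typ_decomposition : ∀ i j k : ZMod 3,
    typA (sr i, sr 0, 1) = true ∧ typA (sr 0, sr j, 1) = true ∧ typB (sr 0, 1, sr k) = true := by
  decide +kernel

theorem comm_x : ∀ w : W, even w = true → cl w.1 = 2 →
    w * trans 1 0 0 * w⁻¹ * (trans 1 0 0)⁻¹ = trans 1 0 0 := by decide +kernel

theorem comm_c : ∀ j k : ZMod 3, ∃ a b : ZMod 3,
    trans 0 a b * repC * (trans 0 a b)⁻¹ * repC = trans 0 j k := by decide +kernel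

theorem rot_of_lam : ∀ w : W, even w = true → cl w.1 ≠ 2 →
    rot w = true ∨ rot (w * repC) = true := by decide +kernel

theorem lam_div : ∀ s t : DihedralGroup 3, cl s = 2 → cl t = 2 → cl (s * t⁻¹) ≠ 2 := by
  decide +kernel

theorem rot_cases : ∀ w : W, rot w = true → ∃ i j k : ZMod 3, w = trans i j k := by decide +kernel

theorem trans_split : ∀ i j k : ZMod 3, trans i j k = trans 1 0 0 ^ i.val * trans 0 j k := by
  decide +kernel

theorem trans_gen : ∀ i : ZMod 3, i ≠ 0 → ∀ j k : ZMod 3, ∃ n : Fin 3, ∃ a b : ZMod 3,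
    trans i j k ^ (n : ℕ) * trans 0 a b = trans 1 0 0 := by decide +kernel

theorem sq_first : ∀ w : W, even w = true → cl w.1 ≠ 2 → w.1 ≠ 1 →
    rot (w * w) = true ∧ (w * w).1 ≠ 1 := by decide +kernel

theorem card_U : (Finset.univ.filter fun w : W => rot w = true ∧ w.1 = 1).card = 9 := by
  decide +kernel

theorem card_HN : (Finset.univ.filter fun w : W => even w = true ∧ w.1 = 1).card = 18 := by
  decide +kernel

theorem centralizer_U : ∀ w : W, even w = true → w * trans 0 1 0 = trans 0 1 0 * w →
    w * trans 0 0 1 = trans 0 0 1 * w → rot w = true := by decide +kernel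

theorem lamC_eq_eps : ∀ w : W, lamC w = eps w.1 := fun _ => rfl

/-- Interchange of the first and third coordinates. -/
def swap13 : W ≃* W where
  toFun w := (w.2.2, w.2.1, w.1)
  invFun w := (w.2.2, w.2.1, w.1)
  left_inv _ := rfl
  right_inv _ := rfl
  map_mul' _ _ := rfl

/-- Interchange of the first two coordinates. -/
def swap12 : W ≃* W where
  toFun w := (w.2.1, w.1, w.2.2)
  invFun w := (w.2.1, w.1, w.2.2)
  left_inv _ := rfl
  right_inv _ := rfl
  map_mul' _ _ := rfl

theorem even_swap : ∀ w : W, even (swap13 w) = even w ∧ even (swap12 w) = even w := by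
  decide +kernel

theorem rot_both : ∀ w : W, even w = true → cl w.1 ≠ 2 → cl (swap13 w).1 ≠ 2 → rot w = true := by
  decide +kernel

theorem swap_reps : swap13 repA = repC ∧ swap13 repB = repB ∧ swap13 repC = repA ∧
    swap12 repA = repA ∧ swap12 repB = repC ∧ swap12 repC = repB := by decide +kernel

end Cfsg.Agent.ThreeCubed
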