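import Cfsg.Agent.Lib.Recog.ThreeCubed.Generalized
import Cfsg.Agent.Lib.Recog.ThreeCubed.ArithCases
import Cfsg.Agent.Lib.CT.FusionInvolution
import Mathlib.GroupTheory.Sylow

/-!
The situation of a subgroup `3^3 : 2^2` containing the centralizers of its nontrivial 3-elements.
-/

set_option autoImplicit false
set_option linter.unusedSectionVars false

namespace Cfsg.Agent.ThreeCubed

universe u

variable {G : Type u} [Group G]

/-- The hypotheses, with a chosen identification of `H` with the model. -/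
structure Setup (H T : Subgroup G) (ι : H →* W) : Prop where
  hTH : T ≤ H
  hT : Nat.card T = 27
  hN : Subgroup.normalizer (T : Set G) = H
  hC : ∀ t ∈ T, t ≠ 1 → Subgroup.centralizer ({t} : Set G) ≤ H
  inj : Function.Injective ι
  range : ∀ w, w ∈ ι.range ↔ even w = true

namespace Setup

variable {H T : Subgroup G} {ι : H →* W}

theorem even_apply (S : Setup H T ι) (h : H) : even (ι h) = true := (S.range _).mp ⟨h, rfl⟩

theorem exists_pre (S : Setup H T ι) {w : W} (hw : even w = true) : ∃ h : H, ι h = w :=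
  (S.range w).mpr hw

theorem eq_one_iff (S : Setup H T ι) (h : H) : ι h = 1 ↔ h = 1 := map_eq_one_iff ι S.inj

variable [Fintype H]

theorem image_univ (S : Setup H T ι) :
    Finset.univ.image ι = Finset.univ.filter (fun w : W => even w = true) := by
  ext w
  simp only [Finset.mem_image, Finset.mem_univ, true_and, Finset.mem_filter]
  exact S.range w

theorem sum_model (S : Setup H T ι) {R : Type*} [AddCommMonoid R] (φ : W → R) :
    ∑ h : H, φ (ι h) = ∑ w ∈ Finset.univ.filter (fun w : W => even w = true), φ w := by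
  rw [← S.image_univ, Finset.sum_image fun a _ b _ e => S.inj e]

theorem card_H (S : Setup H T ι) : Nat.card H = 108 := by
  rw [Nat.card_eq_fintype_card, ← Finset.card_univ, ← card_even, ← S.image_univ,
    Finset.card_image_of_injective _ S.inj]

theorem mem_T_iff (S : Setup H T ι) (h : H) : (h : G) ∈ T ↔ rot (ι h) = true := by
  classical
  have h1 : Finset.univ.filter (fun h : H => (h : G) ∈ T) ⊆
      Finset.univ.filter (fun h : H => rot (ι h) = true) := by
    intro x hx
    simp only [Finset.mem_filter, Finset.mem_univ, true_and] at hx ⊢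
    refine rot_of_pow ?_
    rw [← map_pow]
    have : (⟨(x : G), hx⟩ : T) ^ Nat.card T = 1 := pow_card_eq_one'
    rw [S.hT] at this
    have : x ^ 27 = 1 := Subtype.ext (by simpa using congrArg Subtype.val this)
    rw [this, map_one]
  have h2 : (Finset.univ.filter fun h : H => rot (ι h) = true).card ≤
      (Finset.univ.filter fun h : H => (h : G) ∈ T).card := by
    have a : (Finset.univ.filter fun h : H => rot (ι h) = true).card ≤
        (Finset.univ.filter fun w : W => rot w = true).card :=
      Finset.card_le_card_of_injOn ι (fun x hx => by simpa using hx) fun a _ b _ e => S.inj e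
    have b : (Finset.univ.filter fun h : H => (h : G) ∈ T).card = Nat.card T := by
      rw [← Fintype.card_subtype, ← Nat.card_eq_fintype_card]
      exact Nat.card_congr ⟨fun x => ⟨(x.1 : G), x.2⟩, fun x => ⟨⟨(x : G), S.hTH x.2⟩, x.2⟩,
        fun x => rfl, fun x => rfl⟩
    rw [card_rot] at a
    rw [b, S.hT]
    exact a
  have := Finset.eq_of_subset_of_card_le h1 h2
  have := Finset.ext_iff.mp this h
  simpa using this

theorem T_comm (S : Setup H T ι) {x y : G} (hx : x ∈ T) (hy : y ∈ T) : x * y = y * x := by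
  have e := rot_comm ((S.mem_T_iff ⟨x, S.hTH hx⟩).mp hx) ((S.mem_T_iff ⟨y, S.hTH hy⟩).mp hy)
  rw [← map_mul, ← map_mul] at e
  exact congrArg Subtype.val (S.inj e)

theorem sq_mem (S : Setup H T ι) (h : H) : (h : G) * h ∈ T := by
  rw [← Subgroup.coe_mul, S.mem_T_iff, map_mul]
  exact sq_rot _ (S.even_apply h)

theorem conj_mem (S : Setup H T ι) {x h : G} (hx : x ∈ T) (hh : h ∈ H) : h * x * h⁻¹ ∈ T := by
  rw [← S.hN] at hh
  exact (Subgroup.mem_normalizer_iff.mp hh x).mp hx

variable [Finite G]

/-- `H` controls the fusion of its elements outside the involutions. -/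
theorem fusion (S : Setup H T ι) (h : H) (hh : h * h ≠ 1) (g : G)
    (hg : g * (h : G) * g⁻¹ ∈ H) : g ∈ H := by
  have hs : (h : G) * h ∈ T := S.sq_mem h
  have hs' : g * ((h : G) * h) * g⁻¹ ∈ T := by
    rw [show g * ((h : G) * h) * g⁻¹ = g * h * g⁻¹ * (g * h * g⁻¹) by group]
    exact S.sq_mem ⟨_, hg⟩
  have hne : g * ((h : G) * h) * g⁻¹ ≠ 1 := fun e => hh (Subtype.ext (by simpa using e))
  rw [← S.hN, Subgroup.mem_normalizer_iff]
  have sub : ∀ x ∈ T, g * x * g⁻¹ ∈ T := by
    intro x hx
    have hc : g * x * g⁻¹ ∈ H := by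
      refine S.hC _ hs' hne (Subgroup.mem_centralizer_singleton_iff.mpr ?_)
      calc g * x * g⁻¹ * (g * ((h : G) * h) * g⁻¹) = g * (x * ((h : G) * h)) * g⁻¹ := by group
        _ = g * ((h : G) * h * x) * g⁻¹ := by rw [S.T_comm hx hs]
        _ = g * ((h : G) * h) * g⁻¹ * (g * x * g⁻¹) := by group
    have hx27 : x ^ 27 = 1 := by
      have : (⟨x, hx⟩ : T) ^ Nat.card T = 1 := pow_card_eq_one'
      rw [S.hT] at this
      simpa using congrArg Subtype.val this
    refine (S.mem_T_iff ⟨_, hc⟩).mpr (rot_of_pow ?_)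
    rw [← map_pow]
    have : (⟨g * x * g⁻¹, hc⟩ : H) ^ 27 = 1 := Subtype.ext (by simp [conj_pow, hx27])
    rw [this, map_one]
  intro x
  refine ⟨sub x, fun hx => ?_⟩
  have hmap : T.map (MulAut.conj g).toMonoidHom = T := by
    refine Subgroup.eq_of_le_of_card_ge (Subgroup.map_le_iff_le_comap.mpr fun y hy => sub y hy) ?_
    rw [Subgroup.card_map_of_injective (MulAut.conj g).injective]
  rw [← hmap] at hx
  obtain ⟨y, hy, e⟩ := Subgroup.mem_map.mp hx
  have : y = x := (MulAut.conj g).injective (by simpa using e)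
  exact this ▸ hy

variable [Fintype G]

/-- A table transported to `H`. -/
def fn (ι : H →* W) (F : W → ℤ) : H → ℂ := fun h => (F (ι h) : ℂ)

theorem isClassFunction_fn {F : W → ℤ} (hF : F ∈ tables) : IsClassFunction H (fn ι F) := by
  intro g x
  simp [fn, tables_conj F hF]

theorem fn_support (S : Setup H T ι) {F : W → ℤ} (hF : F ∈ tables) (h : H) (hh : ¬ h * h ≠ 1) :
    fn ι F h = 0 := by
  have : ι h * ι h = 1 := by rw [← map_mul, not_not.mp hh, map_one]
  simp [fn, tables_support F hF _ (S.even_apply h) this]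

theorem fn_fusion (S : Setup H T ι) {F : W → ℤ} (hF : F ∈ tables) (h : H) (hh : fn ι F h ≠ 0)
    (g : G) (hg : g * (h : G) * g⁻¹ ∈ H) : g ∈ H :=
  S.fusion h (fun e => hh (S.fn_support hF h (fun a => a e))) g hg

/-- Multiplicity of an irreducible character in an induced table. -/
noncomputable def coef (ι : H →* W) (F : W → ℤ) (χ : IrrCharacter G) : ℤ :=
  ⌊(classInner (indFun H (fn ι F)) χ).re⌋

theorem coef_spec (S : Setup H T ι) {F : W → ℤ} (hF : F ∈ tables) (χ : IrrCharacter G) :
    classInner (indFun H (fn ι F)) χ = (coef ι F χ : ℂ) := by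
  obtain ⟨m, hm⟩ := CT.isGen_inner_int
    (CT.isGen_indFun H (isGen_tables ι S.even_apply F hF)) (CT.isGen_of_isIrr χ.2)
  change classInner (indFun H (fn ι F)) χ = _ at hm
  rw [coef, hm]
  simp

theorem classInner_fn (S : Setup H T ι) (F F' : W → ℤ) :
    classInner (fn ι F) (fn ι F') = (dot F F' : ℂ) / 108 := by
  simp only [classInner, fn, map_intCast]
  rw [S.card_H, S.sum_model (fun w => (F w : ℂ) * (F' w : ℂ)), dot]
  push_cast
  rw [div_eq_mul_inv, mul_comm]

theorem coef_dot (S : Setup H T ι) {F F' : W → ℤ} (hF : F ∈ tables) (hF' : F' ∈ tables) :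
    108 * ∑ χ : IrrCharacter G, coef ι F χ * coef ι F' χ = dot F F' := by
  have e := CT.classInner_eq_sum (f := indFun H (fn ι F))
    (CT.isClassFunction_indFun H (fn ι F'))
  rw [CT.classInner_indFun_fusion (isClassFunction_fn hF') (fun h : H => h * h ≠ 1) S.fusion
    (S.fn_support hF) (S.fn_support hF') (by simp), S.classInner_fn] at e
  simp only [S.coef_spec hF, S.coef_spec hF', map_intCast] at e
  rw [div_eq_iff (by norm_num)] at e
  have : ((108 * ∑ χ : IrrCharacter G, coef ι F χ * coef ι F' χ : ℤ) : ℂ) = (dot F F' : ℂ) := by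
    rw [e]
    push_cast
    ring
  exact_mod_cast this

theorem coef_lin (S : Setup H T ι) {F : W → ℤ} (hF : F ∈ tables) (χ : IrrCharacter G)
    (L : W → ℤ) (hL : ∀ h : H, (χ : G → ℂ) h = (L (ι h) : ℂ)) :
    108 * coef ι F χ = dot F L := by
  have e := CT.frobenius_reciprocity H (fn ι F) (CT.isClassFunction_of_isIrr χ.2)
  rw [S.coef_spec hF, show (fun h : H => (χ : G → ℂ) h) = fn ι L from funext hL,
    S.classInner_fn, eq_div_iff (by norm_num)] at e
  have : ((108 * coef ι F χ : ℤ) : ℂ) = (dot F L : ℂ) := by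
    rw [← e]
    push_cast
    ring
  exact_mod_cast this

/-- The degree of an irreducible character. -/
noncomputable def cdeg (χ : IrrCharacter G) : ℤ := (CT.deg (χ : G → ℂ) : ℤ)

theorem cdeg_eq (χ : IrrCharacter G) : (χ : G → ℂ) 1 = (cdeg χ : ℂ) := by
  rw [cdeg, CT.deg_eq (CT.isCharacter_of_isIrr χ.2)]
  simp

theorem cdeg_pos (χ : IrrCharacter G) : 0 < cdeg χ := by
  simpa [cdeg] using CT.deg_pos χ.2

/-- The value of an irreducible character at an involution. -/
noncomputable def cval (u : G) (χ : IrrCharacter G) : ℤ := ⌊((χ : G → ℂ) u).re⌋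

theorem cval_eq {u : G} (hu : u * u = 1) (χ : IrrCharacter G) :
    (χ : G → ℂ) u = (cval u χ : ℂ) := by
  obtain ⟨z, hz⟩ := CT.exists_int_value_of_sq hu χ
  simp [cval, hz]

theorem coef_eval (S : Setup H T ι) {F : W → ℤ} (hF : F ∈ tables) {g : G} (hg : g * g = 1) :
    ∑ χ : IrrCharacter G, (coef ι F χ : ℂ) * (χ : G → ℂ) g = 0 := by
  have h0 : indFun H (fn ι F) g = 0 := by
    refine CT.indFun_eq_zero_of_forall fun x hx => S.fn_support hF _ (not_not.mpr ?_)
    refine Subtype.ext ?_
    show x⁻¹ * g * x * (x⁻¹ * g * x) = 1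
    rw [show x⁻¹ * g * x * (x⁻¹ * g * x) = x⁻¹ * (g * g) * x by group, hg, mul_one, inv_mul_cancel]
  rw [← h0]
  conv_rhs => rw [CT.classFunction_eq_sum (CT.isClassFunction_indFun H (fn ι F))]
  simp [S.coef_spec hF]

theorem coef_deg (S : Setup H T ι) {F : W → ℤ} (hF : F ∈ tables) :
    ∑ χ : IrrCharacter G, coef ι F χ * cdeg χ = 0 := by
  have := S.coef_eval hF (g := 1) (one_mul 1)
  simp only [cdeg_eq] at this
  exact_mod_cast this

theorem coef_val (S : Setup H T ι) {F : W → ℤ} (hF : F ∈ tables) {u : G} (hu : u * u = 1) :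
    ∑ χ : IrrCharacter G, coef ι F χ * cval u χ = 0 := by
  have := S.coef_eval hF hu
  simp only [cval_eq hu] at this
  exact_mod_cast this

/-- The factor in the pair counting identity. -/
noncomputable def kappa (u : G) : ℚ :=
  (Nat.card {x : G // IsConj u x} : ℚ) * (Nat.card {x : G // IsConj u x} : ℚ) / (Nat.card G : ℚ)

theorem kappa_pos (u : G) : 0 < kappa u := by
  have : Nonempty {x : G // IsConj u x} := ⟨⟨u, IsConj.refl u⟩⟩
  have h1 : (0 : ℚ) < (Nat.card {x : G // IsConj u x} : ℚ) := Nat.cast_pos.mpr Nat.card_pos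
  have h2 : (0 : ℚ) < (Nat.card G : ℚ) := Nat.cast_pos.mpr Nat.card_pos
  unfold kappa
  positivity

theorem pair_identity (S : Setup H T ι) {F : W → ℤ} (hF : F ∈ tables) {u : G} (hu : u * u = 1)
    (P : W → Bool) (hPe : ∀ w, P w = true → even w = true)
    (hP : ∀ h : H, IsConj u (h : G) ↔ P (ι h) = true) :
    108 * (kappa u * Arith.Lsum cdeg (cval u) (coef ι F)) = (pairSum P F : ℚ) := by
  classical
  have e := CT.involution_pair_sum (H := H) hu (θ := fn ι F) (S.fn_fusion hF)
  have himg : (Finset.univ.filter fun y : H => IsConj u (y : G)).image ι =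
      Finset.univ.filter (fun w : W => P w = true) := by
    ext w
    simp only [Finset.mem_image, Finset.mem_filter, Finset.mem_univ, true_and]
    constructor
    · rintro ⟨y, hy, rfl⟩
      exact (hP y).mp hy
    · intro hw
      obtain ⟨y, rfl⟩ := S.exists_pre (hPe w hw)
      exact ⟨y, (hP y).mpr hw, rfl⟩
  have hsum : ∑ y ∈ Finset.univ.filter (fun y : H => IsConj u (y : G)),
      ∑ z ∈ Finset.univ.filter (fun z : H => IsConj u (z : G)), fn ι F (y * z) =
      (pairSum P F : ℂ) := by
    rw [pairSum, ← himg, Int.cast_sum, Finset.sum_image fun a _ b _ e => S.inj e]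
    refine Finset.sum_congr rfl fun y _ => ?_
    rw [Int.cast_sum, Finset.sum_image fun a _ b _ e => S.inj e]
    simp [fn]
  replace e := e.trans (show _ = ((108 : ℕ) : ℂ)⁻¹ * (pairSum P F : ℂ) by
    rw [S.card_H, ← hsum]
    congr!)
  simp only [S.coef_spec hF, cdeg_eq, cval_eq hu] at e
  have : ((108 * (kappa u * Arith.Lsum cdeg (cval u) (coef ι F)) : ℚ) : ℂ) =
      ((pairSum P F : ℚ) : ℂ) := by
    simp only [kappa, Arith.Lsum]
    push_cast
    simp only [pow_two]
    rw [e]
    norm_num
    ring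
  exact_mod_cast this

/-- The table equations, as equations between integers. -/
theorem coef_isF (S : Setup H T ι) {F : W → ℤ} (hF : F ∈ tables) (hn : dot F F = 324)
    (h1 : dot F one' = 108) {u : G} (hu : u * u = 1) :
    Arith.IsF (CT.trivIrr G) cdeg (cval u) (coef ι F) := by
  refine ⟨?_, ?_, S.coef_deg hF, S.coef_val hF hu⟩
  · have := S.coef_lin hF (CT.trivIrr G) one' (fun h => by simp [one'])
    omega
  · have := S.coef_dot hF hF
    omega

theorem coef_isG (S : Setup H T ι) {F : W → ℤ} (hF : F ∈ tables) (hn : dot F F = 324)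
    (h1 : dot F one' = 0) {u : G} (hu : u * u = 1) :
    Arith.IsG (CT.trivIrr G) cdeg (cval u) (coef ι F) := by
  refine ⟨?_, ?_, S.coef_deg hF, S.coef_val hF hu⟩
  · have := S.coef_lin hF (CT.trivIrr G) one' (fun h => by simp [one'])
    omega
  · have := S.coef_dot hF hF
    omega

theorem cdeg_triv : cdeg (CT.trivIrr G) = 1 := by
  have := cdeg_eq (CT.trivIrr G)
  simp at this
  exact_mod_cast this.symm

theorem cval_triv (u : G) : cval u (CT.trivIrr G) = 1 := by simp [cval]

end Setup

end Cfsg.Agent.ThreeCubed
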