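import Cfsg.Agent.Lib.Recog.ThreeCubed.Setup
import Cfsg.Agent.Lib.Recog.ThreeCubed.ModelAux
import Cfsg.Agent.Lib.CT.Kernel

/-!
An involution class meeting `H` in one class gives a linear character of order two.
-/

set_option autoImplicit false
set_option linter.unusedSectionVars false
set_option linter.style.haveILetI false

namespace Cfsg.Agent.ThreeCubed.Setup

open DihedralGroup

universe u

variable {G : Type u} [Group G] {H T : Subgroup G} {ι : H →* W}

theorem comp_perm (S : Setup H T ι) (σ : W ≃* W) (hσ : ∀ w, even (σ w) = even w) :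
    Setup H T (σ.toMonoidHom.comp ι) := by
  refine ⟨S.hTH, S.hT, S.hN, S.hC, σ.injective.comp S.inj, fun w => ?_⟩
  rw [show even w = even (σ.symm w) by rw [← hσ (σ.symm w), MulEquiv.apply_symm_apply],
    ← S.range]
  constructor
  · rintro ⟨h, rfl⟩
    exact ⟨h, (σ.symm_apply_apply _).symm⟩
  · rintro ⟨h, hh⟩
    exact ⟨h, by simp [hh]⟩

variable [Fintype G] [Fintype H]

theorem conj_of_rep (S : Setup H T ι) {r : W} {h0 h : H} (h0r : ι h0 = r)
    (hh : ∃ i j k : ZMod 3, trans i j k * r * (trans i j k)⁻¹ = ι h) :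
    IsConj (h0 : G) (h : G) := by
  obtain ⟨i, j, k, e⟩ := hh
  obtain ⟨v, hv⟩ := S.exists_pre (rot_even _ (rot_trans i j k))
  rw [← hv, ← h0r, ← map_inv, ← map_mul, ← map_mul] at e
  exact isConj_iff.mpr ⟨v, congrArg Subtype.val (S.inj e)⟩

theorem conj_A (S : Setup H T ι) {hA h : H} (eA : ι hA = repA) (h1 : typA (ι h) = true) :
    IsConj (hA : G) (h : G) := S.conj_of_rep eA ((typ_conj (ι h)).1 h1)

theorem conj_B (S : Setup H T ι) {hB h : H} (eB : ι hB = repB) (h1 : typB (ι h) = true) :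
    IsConj (hB : G) (h : G) := S.conj_of_rep eB ((typ_conj (ι h)).2.1 h1)

theorem conj_C (S : Setup H T ι) {hC h : H} (eC : ι hC = repC) (h1 : typC (ι h) = true) :
    IsConj (hC : G) (h : G) := S.conj_of_rep eC ((typ_conj (ι h)).2.2 h1)

theorem rep_sq (S : Setup H T ι) {h0 : H} (hw : typAll (ι h0) = true) : (h0 : G) * h0 = 1 := by
  have := ((invol_types _ (S.even_apply h0)).mpr hw).1
  rw [← map_mul, S.eq_one_iff] at this
  exact congrArg Subtype.val this

theorem typ_of_conj (S : Setup H T ι) {h0 h : H} (hw : typAll (ι h0) = true)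
    (hc : IsConj (h0 : G) (h : G)) : typAll (ι h) = true := by
  refine (invol_types _ (S.even_apply h)).mp ?_
  obtain ⟨c, hc⟩ := isConj_iff.mp hc
  have h1 := ((invol_types _ (S.even_apply h0)).mpr hw).2
  rw [ne_eq, S.eq_one_iff] at h1 ⊢
  constructor
  · rw [← map_mul, S.eq_one_iff]
    refine Subtype.ext ?_
    show (h : G) * h = 1
    rw [← hc, show c * h0 * c⁻¹ * (c * h0 * c⁻¹) = c * ((h0 : G) * h0) * c⁻¹ by group,
      S.rep_sq hw, mul_one, mul_inv_cancel]
  · intro e
    refine h1 (Subtype.ext ?_)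
    rw [e, Subgroup.coe_one, conj_eq_one_iff] at hc
    simpa using hc

theorem mem_H_of_map (S : Setup H T ι) {g : G} (sub : ∀ x ∈ T, g * x * g⁻¹ ∈ T) : g ∈ H := by
  rw [← S.hN, Subgroup.mem_normalizer_iff]
  intro x
  refine ⟨sub x, fun hx => ?_⟩
  have hmap : T.map (MulAut.conj g).toMonoidHom = T := by
    refine Subgroup.eq_of_le_of_card_ge (Subgroup.map_le_iff_le_comap.mpr fun y hy => sub y hy) ?_
    rw [Subgroup.card_map_of_injective (MulAut.conj g).injective]
  rw [← hmap] at hx
  obtain ⟨y, hy, e⟩ := Subgroup.mem_map.mp hx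
  have : y = x := (MulAut.conj g).injective (by simpa using e)
  exact this ▸ hy

/-- `T` is a Sylow subgroup of every subgroup containing it. -/
theorem not_dvd_index (S : Setup H T ι) (N : Subgroup G) (hTN : T ≤ N) :
    ¬ 3 ∣ (T.subgroupOf N).index := by
  haveI : Fact (Nat.Prime 3) := ⟨Nat.prime_three⟩
  intro h
  have h1 : Nat.card (T.subgroupOf N) = 27 := by
    rw [Nat.card_congr (Subgroup.subgroupOfEquivOfLe hTN).toEquiv, S.hT]
  have h81 : 81 ∣ Nat.card N := by
    rw [← Subgroup.card_mul_index (T.subgroupOf N), h1]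
    exact mul_dvd_mul_left 27 h
  have h2 := Sylow.card_normalizer_modEq_card (p := 3) (n := 3) (H := T) (by simpa using S.hT)
  rw [S.hN, S.card_H] at h2
  have h3 : 81 ∣ Nat.card G := h81.trans (Subgroup.card_subgroup_dvd_card N)
  unfold Nat.ModEq at h2
  norm_num [-Nat.card_eq_fintype_card] at h2
  omega

theorem isPGroup_T (S : Setup H T ι) : IsPGroup 3 T :=
  IsPGroup.of_card (n := 3) (by rw [S.hT]; norm_num)

theorem frattini (S : Setup H T ι) (N : Subgroup G) [N.Normal] (hTN : T ≤ N) : H ⊔ N = ⊤ := by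
  haveI : Fact (Nat.Prime 3) := ⟨Nat.prime_three⟩
  have hp : IsPGroup 3 (T.subgroupOf N) :=
    S.isPGroup_T.of_equiv (Subgroup.subgroupOfEquivOfLe hTN).symm
  have := Sylow.normalizer_sup_eq_top (hp.toSylow (S.not_dvd_index N hTN))
  rw [IsPGroup.toSylow_coe, Subgroup.subgroupOf_map_subtype, inf_eq_left.mpr hTN, S.hN] at this
  exact this

/-- A proper normal subgroup containing the third involution has a linear character above it. -/
theorem exists_sign_of_normal (S : Setup H T ι) (N : Subgroup G) [N.Normal] (hN : N ≠ ⊤)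
    {hC : H} (eC : ι hC = repC) (hCN : (hC : G) ∈ N) :
    ∃ sgn : G →* ℂˣ, ∀ h : H, (sgn h : ℂ) = (lamC (ι h) : ℂ) := by
  classical
  haveI : Fact (Nat.Prime 3) := ⟨Nat.prime_three⟩
  have mem_of : ∀ (a b : H), ι a = ι b → ((a : G) ∈ N ↔ (b : G) ∈ N) := fun a b e => by
    rw [S.inj e]
  -- the translations fixed by the third axis
  have hU : ∀ h : H, ∀ j k : ZMod 3, ι h = trans 0 j k → (h : G) ∈ N := by
    intro h j k e
    obtain ⟨a, b, hab⟩ := comm_c j k
    obtain ⟨v, hv⟩ := S.exists_pre (rot_even _ (rot_trans 0 a b))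
    refine (mem_of (v * hC * v⁻¹ * hC) h (by simp [hv, eC, hab, e])).mp ?_
    simp only [Subgroup.coe_mul, Subgroup.coe_inv]
    exact N.mul_mem (Subgroup.Normal.conj_mem ‹_› _ hCN _) hCN
  obtain ⟨tx, htx⟩ := S.exists_pre (rot_even _ (rot_trans 1 0 0))
  have hTN : (tx : G) ∈ N → T ≤ N := by
    intro htxN x hx
    obtain ⟨i, j, k, e⟩ := rot_cases _ ((S.mem_T_iff ⟨x, S.hTH hx⟩).mp hx)
    obtain ⟨v, hv⟩ := S.exists_pre (rot_even _ (rot_trans 0 j k))
    refine (mem_of (tx ^ i.val * v) ⟨x, S.hTH hx⟩ ?_).mp ?_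
    · rw [map_mul, map_pow, htx, hv, e, trans_split i j k]
    · simp only [Subgroup.coe_mul, Subgroup.coe_pow]
      exact N.mul_mem (N.pow_mem htxN _) (hU v j k hv)
  -- `N ∩ H` lies in the kernel
  have hker : ∀ h : H, (h : G) ∈ N → cl (ι h).1 ≠ 2 := by
    intro h hh h2
    have htxN : (tx : G) ∈ N := by
      refine (mem_of (h * tx * h⁻¹ * tx⁻¹) tx ?_).mp ?_
      · simp only [map_mul, map_inv, htx]
        exact comm_x _ (S.even_apply h) h2
      · simp only [Subgroup.coe_mul, Subgroup.coe_inv]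
        have := N.mul_mem hh (Subgroup.Normal.conj_mem ‹_› _ (N.inv_mem hh) (tx : G))
        simpa [mul_assoc] using this
    have hT' := hTN htxN
    have h0 : ∀ x : H, cl (ι x).1 ≠ 2 → (x : G) ∈ N := by
      intro x hx
      rcases rot_of_lam _ (S.even_apply x) hx with e | e
      · exact hT' ((S.mem_T_iff x).mpr e)
      · rw [← eC, ← map_mul] at e
        have := N.mul_mem (hT' ((S.mem_T_iff _).mpr e)) (N.inv_mem hCN)
        simpa using this
    have hHN : H ≤ N := by
      intro x hx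
      by_cases e : cl (ι ⟨x, hx⟩).1 = 2
      · have h3 : cl (ι (⟨x, hx⟩ * h⁻¹)).1 ≠ 2 := by
          rw [map_mul, map_inv]
          exact lam_div _ _ e h2
        have := N.mul_mem (h0 _ h3) hh
        simpa using this
      · exact h0 ⟨x, hx⟩ e
    apply hN
    rw [← S.frattini N hT', sup_eq_right.mpr hHN]
  -- `G = H N`
  have hsup : H ⊔ N = ⊤ := by
    by_cases htxN : (tx : G) ∈ N
    · exact S.frattini N (hTN htxN)
    have hfirst : ∀ x : H, (x : G) ∈ N → (ι x).1 = 1 := by
      intro x hx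
      by_contra e
      obtain ⟨h1, h2⟩ := sq_first _ (S.even_apply x) (hker x hx) e
      obtain ⟨i, j, k, h3⟩ := rot_cases _ h1
      have hi : i ≠ 0 := fun hi => h2 (by rw [h3, hi]; rfl)
      obtain ⟨n, a, b, h4⟩ := trans_gen i hi j k
      obtain ⟨v, hv⟩ := S.exists_pre (rot_even _ (rot_trans 0 a b))
      refine htxN ((mem_of ((x * x) ^ (n : ℕ) * v) tx ?_).mp ?_)
      · rw [map_mul, map_pow, map_mul, h3, hv, h4, htx]
      · simp only [Subgroup.coe_mul, Subgroup.coe_pow]
        exact N.mul_mem (N.pow_mem (N.mul_mem hx hx) _) (hU v a b hv)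
    set U := T ⊓ N with hUdef
    have hUmem : ∀ x : H, (x : G) ∈ U ↔ rot (ι x) = true ∧ (ι x).1 = 1 := by
      intro x
      constructor
      · exact fun hx => ⟨(S.mem_T_iff x).mp hx.1, hfirst x hx.2⟩
      · rintro ⟨h1, h2⟩
        refine ⟨(S.mem_T_iff x).mpr h1, ?_⟩
        obtain ⟨i, j, k, h3⟩ := rot_cases _ h1
        refine hU x j k ?_
        rw [h3] at h2 ⊢
        have : i = 0 := by
          have h' : r i = r (0 : ZMod 3) := h2
          injection h'
        rw [this]
    have hcount : ∀ (K : Subgroup G) (P : W → Prop) [DecidablePred P], K ≤ H →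
        (∀ x : H, (x : G) ∈ K ↔ P (ι x)) → (∀ w, P w → even w = true) →
        Nat.card K = (Finset.univ.filter P).card := by
      intro K P _ hK hP hPe
      rw [← Fintype.card_subtype, ← Nat.card_eq_fintype_card]
      refine Nat.card_eq_of_bijective
        (fun x : K => (⟨ι ⟨x, hK x.2⟩, (hP _).mp x.2⟩ : {w : W // P w})) ⟨?_, ?_⟩
      · intro a b e
        exact Subtype.ext (congrArg (fun t : H => (t : G)) (S.inj (congrArg Subtype.val e)))
      · rintro ⟨w, hw⟩
        obtain ⟨x, rfl⟩ := S.exists_pre (hPe w hw)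
        exact ⟨⟨x, (hP x).mpr hw⟩, rfl⟩
    have hUH : U ≤ H := inf_le_left.trans S.hTH
    have cardU : Nat.card U = 9 := by
      rw [hcount U (fun w => rot w = true ∧ w.1 = 1) hUH hUmem (fun w hw => rot_even w hw.1),
        card_U]
    have cardHN : Nat.card (H ⊓ N : Subgroup G) = 18 := by
      rw [hcount (H ⊓ N) (fun w => even w = true ∧ w.1 = 1) inf_le_left
        (fun x => ⟨fun hx => ⟨S.even_apply x, hfirst x hx.2⟩, fun hx => ⟨x.2, ?_⟩⟩)
        (fun w hw => hw.1), card_HN]
      have hcl : cl (ι x).1 ≠ 2 := by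
        rw [hx.2]
        decide
      rcases rot_of_lam _ (S.even_apply x) hcl with e | e
      · exact ((hUmem x).mpr ⟨e, hx.2⟩).2
      · rw [← eC, ← map_mul] at e
        have h2 : (ι (x * hC)).1 = 1 := by simp [eC, hx.2, repC]
        have := N.mul_mem ((hUmem _).mpr ⟨e, h2⟩).2 (N.inv_mem hCN)
        simpa using this
    -- the normalizer of `U`
    have hnU : Subgroup.normalizer (U : Set G) ≤ H := by
      intro g hg
      obtain ⟨u1, hu1⟩ := S.exists_pre (rot_even _ (rot_trans 0 1 0))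
      obtain ⟨u2, hu2⟩ := S.exists_pre (rot_even _ (rot_trans 0 0 1))
      have m1 : (u1 : G) ∈ U := (hUmem u1).mpr (by rw [hu1]; exact ⟨rot_trans _ _ _, rfl⟩)
      have m2 : (u2 : G) ∈ U := (hUmem u2).mpr (by rw [hu2]; exact ⟨rot_trans _ _ _, rfl⟩)
      refine S.mem_H_of_map fun x hx => ?_
      have hc : ∀ y ∈ U, g * x * g⁻¹ * y = y * (g * x * g⁻¹) := by
        intro y hy
        have hy' : g⁻¹ * y * g ∈ U := by
          have := (Subgroup.mem_normalizer_iff.mp ((Subgroup.normalizer (U : Set G)).inv_mem hg) y).mp hy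
          simpa using this
        calc g * x * g⁻¹ * y = g * (x * (g⁻¹ * y * g)) * g⁻¹ := by group
          _ = g * ((g⁻¹ * y * g) * x) * g⁻¹ := by rw [S.T_comm hx hy'.1]
          _ = y * (g * x * g⁻¹) := by group
      have hne : (u1 : G) ≠ 1 := by
        intro e
        have : u1 = 1 := Subtype.ext e
        rw [this, map_one] at hu1
        exact absurd hu1 (by decide)
      have hH : g * x * g⁻¹ ∈ H :=
        S.hC _ m1.1 hne (Subgroup.mem_centralizer_singleton_iff.mpr (hc _ m1))
      refine (S.mem_T_iff ⟨_, hH⟩).mpr (centralizer_U _ (S.even_apply _) ?_ ?_)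
      · rw [← hu1, ← map_mul, ← map_mul]
        exact congrArg ι (Subtype.ext (hc _ m1))
      · rw [← hu2, ← map_mul, ← map_mul]
        exact congrArg ι (Subtype.ext (hc _ m2))
    have hUN : U ≤ N := inf_le_right
    have h9 : Nat.card (U.subgroupOf N) = 9 := by
      rw [Nat.card_congr (Subgroup.subgroupOfEquivOfLe hUN).toEquiv, cardU]
    have hidx : ¬ 3 ∣ (U.subgroupOf N).index := by
      intro h
      have h27 : 27 ∣ Nat.card N := by
        rw [← Subgroup.card_mul_index (U.subgroupOf N), h9]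
        exact mul_dvd_mul_left 9 h
      have h2 := Sylow.card_normalizer_modEq_card (p := 3) (n := 2) (H := U.subgroupOf N)
        (by simpa using h9)
      have h3 : Nat.card (Subgroup.normalizer ((U.subgroupOf N : Subgroup N) : Set N)) ∣ 18 := by
        rw [← Subgroup.card_map_of_injective (f := N.subtype) N.subtype_injective, ← cardHN]
        refine Subgroup.card_dvd_of_le (le_inf ?_ (Subgroup.map_subtype_le _))
        refine (Subgroup.le_normalizer_map _).trans ?_
        rw [Subgroup.subgroupOf_map_subtype, inf_eq_left.mpr hUN]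
        exact hnU
      have h5 : 0 < Nat.card (Subgroup.normalizer ((U.subgroupOf N : Subgroup N) : Set N)) :=
        Nat.card_pos
      have h6 := Nat.le_of_dvd (by norm_num) h3
      unfold Nat.ModEq at h2
      norm_num [-Nat.card_eq_fintype_card] at h2
      omega
    have hp : IsPGroup 3 (U.subgroupOf N) := IsPGroup.of_card (n := 2) (by rw [h9]; norm_num)
    have := Sylow.normalizer_sup_eq_top (hp.toSylow hidx)
    rw [IsPGroup.toSylow_coe, Subgroup.subgroupOf_map_subtype, inf_eq_left.mpr hUN] at this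
    exact eq_top_iff.mpr (this ▸ sup_le_sup_right hnU N)
  -- the homomorphism
  let φ : H →* G ⧸ N := (QuotientGroup.mk' N).comp H.subtype
  have hφ : Function.Surjective φ := by
    intro q
    obtain ⟨g, rfl⟩ := QuotientGroup.mk'_surjective N q
    have : g ∈ H ⊔ N := by rw [hsup]; exact Subgroup.mem_top g
    rw [Subgroup.mem_sup_of_normal_right] at this
    obtain ⟨a, ha, b, hb, rfl⟩ := this
    exact ⟨⟨a, ha⟩, (QuotientGroup.mk_mul_of_mem a hb).symm⟩
  let lam : H →* ℂˣ := epsHom.comp ((MonoidHom.fst _ _).comp ι)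
  have hle : φ.ker ≤ lam.ker := by
    intro x hx
    have hxN : (x : G) ∈ N := (QuotientGroup.eq_one_iff _).mp (MonoidHom.mem_ker.mp hx)
    have := hker x hxN
    simp [lam, MonoidHom.mem_ker, epsHom, eps, this]
  refine ⟨(φ.liftOfSurjective hφ ⟨lam, hle⟩).comp (QuotientGroup.mk' N), fun h => ?_⟩
  have : φ.liftOfSurjective hφ ⟨lam, hle⟩ (φ h) = lam h :=
    MonoidHom.liftOfRightInverse_comp_apply _ _ _ ⟨lam, hle⟩ h
  show ((φ.liftOfSurjective hφ ⟨lam, hle⟩ (φ h) : ℂˣ) : ℂ) = _
  rw [this]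
  simp [lam, epsHom_apply, lamC_eq_eps]

/-- An involution of the third type which is not conjugate to the other two types. -/
theorem exists_sign (S : Setup H T ι) {hA hB hC : H} (eA : ι hA = repA) (eB : ι hB = repB)
    (eC : ι hC = repC) (nA : ¬ IsConj (hC : G) (hA : G)) (nB : ¬ IsConj (hC : G) (hB : G)) :
    ∃ sgn : G →* ℂˣ, ∀ h : H, (sgn h : ℂ) = (lamC (ι h) : ℂ) := by
  classical
  have hCtyp : typAll (ι hC) = true := by rw [eC]; decide
  have hu := S.rep_sq hCtyp
  have hP : ∀ h : H, IsConj (hC : G) (h : G) ↔ typC (ι h) = true := by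
    intro h
    refine ⟨fun hc => ?_, fun h' => S.conj_C eC h'⟩
    have := S.typ_of_conj hCtyp hc
    simp only [typAll, Bool.or_eq_true] at this
    rcases this with (a | b) | c
    · exact absurd (hc.trans (S.conj_A eA a).symm) nA
    · exact absurd (hc.trans (S.conj_B eB b).symm) nB
    · exact c
  have hmem : fC ∈ tables := by simp [tables]
  have hF := S.coef_isF hmem dot_values.2.2.1 dot_values.2.2.2.2.2.2.2.2.1 hu
  have hL := S.pair_identity hmem hu typC (fun w hw => typ_even w (by simp [hw])) hP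
  rw [pairSum_C, Int.cast_zero, mul_eq_zero, mul_eq_zero] at hL
  have hL' : Arith.Lsum cdeg (cval (hC : G)) (coef ι fC) = 0 :=
    (hL.resolve_left (by norm_num)).resolve_left (kappa_pos _).ne'
  obtain ⟨χ, hχt, hv⟩ := Arith.case_single cdeg_pos cdeg_triv (cval_triv _) hF hL'
  have hcχ := CT.isCharacter_of_isIrr χ.2
  haveI hnorm : (CT.kerChar (χ : G → ℂ)).Normal := ⟨fun n hn g => by
    rw [CT.mem_kerChar_iff hcχ] at hn ⊢
    rw [← hn]
    exact CT.isClassFunction_of_isCharacter hcχ n g⟩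
  refine S.exists_sign_of_normal (CT.kerChar (χ : G → ℂ)) ?_ eC ?_
  · intro htop
    have hconst : ∀ g : G, (χ : G → ℂ) g = (χ : G → ℂ) 1 := fun g =>
      (CT.mem_kerChar_iff hcχ).mp (htop ▸ Subgroup.mem_top g)
    have h0 := CT.irr_inner_of_ne χ.2 (CT.trivIrr G).2 fun e => hχt (Subtype.ext e)
    simp [classInner, hconst, CT.irr_one_ne_zero χ.2] at h0
  · rw [CT.mem_kerChar_iff hcχ, cval_eq hu, cdeg_eq, hv]

end Cfsg.Agent.ThreeCubed.Setup
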